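import Cfsg.Agent.SteinbergCount82.Identity

/-!
The (B,N)-pair of a quotient of a parabolic subgroup.
-/

set_option autoImplicit false
set_option linter.unusedSectionVars false

namespace Cfsg.Agent.SteinbergCount82

open Cfsg.Agent.BN
open scoped Classical

variable {G : Type*} [Group G] {P : Cfsg.BNPair G} {J : Set G} {X : Type*} [Group X]
  {φ : ↥(P.parabolic J) →* X}

/-- The map to the quotient, extended by one. -/
noncomputable def ext1 (φ : ↥(P.parabolic J) →* X) (g : G) : X :=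
  if h : g ∈ P.parabolic J then φ ⟨g, h⟩ else 1

theorem ext1_of_mem {g : G} (h : g ∈ P.parabolic J) : ext1 φ g = φ ⟨g, h⟩ := dif_pos h

variable (hker : ∀ x : ↥(P.parabolic J), φ x = 1 → (x : G) ∈ P.B)

include hker in
theorem mem_map_B {x : ↥(P.parabolic J)} :
    φ x ∈ (P.B.subgroupOf (P.parabolic J)).map φ ↔ (x : G) ∈ P.B := by
  refine ⟨?_, fun h => Subgroup.mem_map_of_mem φ (Subgroup.mem_subgroupOf.2 h)⟩
  rintro ⟨y, hy, e⟩
  have h1 := hker (y⁻¹ * x) (by rw [map_mul, map_inv, e, inv_mul_cancel])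
  have := mul_mem (show (y : G) ∈ P.B from hy) h1
  simpa using this

variable (hJ : J ⊆ P.S) (hφ : Function.Surjective φ)

/-- The pair. -/
noncomputable def quotPair : Cfsg.BNPair X where
  B := (P.B.subgroupOf (P.parabolic J)).map φ
  N := (P.N.subgroupOf (P.parabolic J)).map φ
  S := ext1 φ '' J
  sup_eq_top := by
    rw [← Subgroup.map_sup, eq_top_iff]
    intro z _
    obtain ⟨x, rfl⟩ := hφ z
    refine Subgroup.mem_map_of_mem φ ?_
    obtain ⟨L, hL, hx⟩ := Steinberg.exists_word_of_mem_parabolic P hJ x.2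
    obtain ⟨b, hb, b', hb', e⟩ := (mem_cell P).1 hx
    have hLw : IsWord P L := fun y hy => hJ (hL y hy)
    have e2 : x = ⟨b, B_le_parabolic P J hb⟩ * ⟨L.prod, word_mem_parabolic P hL⟩ *
        ⟨b', B_le_parabolic P J hb'⟩ := Subtype.ext e
    rw [e2]
    exact mul_mem (mul_mem (Subgroup.mem_sup_left (Subgroup.mem_subgroupOf.2 hb))
      (Subgroup.mem_sup_right (Subgroup.mem_subgroupOf.2 (hLw.mem_N P))))
      (Subgroup.mem_sup_left (Subgroup.mem_subgroupOf.2 hb'))
  conj_mem := by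
    rintro _ ⟨n, hn, rfl⟩ t ⟨htB, z, hz, rfl⟩
    have hzB := (mem_map_B hker).1 htB
    rw [← map_inv, ← map_mul, ← map_mul, mem_map_B hker]
    exact P.conj_mem n hn z ⟨hzB, hz⟩
  subset := by
    rintro _ ⟨s, hs, rfl⟩
    rw [ext1_of_mem (mem_parabolic_of_mem P hs)]
    exact Subgroup.mem_map_of_mem φ (Subgroup.mem_subgroupOf.2 (S_mem_N P (hJ hs)))
  sq_mem := by
    rintro _ ⟨s, hs, rfl⟩
    rw [ext1_of_mem (mem_parabolic_of_mem P hs), ← map_mul, mem_map_B hker]
    exact P.sq_mem s (hJ hs)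
  inj := by
    rintro _ ⟨s, hs, rfl⟩ _ ⟨s', hs', rfl⟩ h
    rw [ext1_of_mem (mem_parabolic_of_mem P hs), ext1_of_mem (mem_parabolic_of_mem P hs'),
      ← map_inv, ← map_mul, mem_map_B hker] at h
    rw [P.inj s (hJ hs) s' (hJ hs') h]
  closure_sup := by
    refine le_antisymm (sup_le ((Subgroup.closure_le _).2 ?_) inf_le_right) ?_
    · rintro _ ⟨s, hs, rfl⟩
      rw [ext1_of_mem (mem_parabolic_of_mem P hs)]
      exact Subgroup.mem_map_of_mem φ (Subgroup.mem_subgroupOf.2 (S_mem_N P (hJ hs)))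
    · rintro _ ⟨x, hx, rfl⟩
      obtain ⟨L, hL, hLr, hLe⟩ := exists_word_reduced P hJ hx x.2
      set l : ↥(P.parabolic J) := ⟨L.prod, word_mem_parabolic P hL⟩ with hl
      have h1 : φ l ∈ Subgroup.closure (ext1 φ '' J) := by
        have e : φ l = (L.map (ext1 φ)).prod := by
          rw [hl]
          clear hl hLe hLr
          induction L with
          | nil => exact map_one φ
          | cons s L ih =>
            have hs := mem_parabolic_of_mem P (hL s List.mem_cons_self)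
            simp only [List.map_cons, List.prod_cons]
            rw [← ih (fun y hy => hL y (List.mem_cons_of_mem _ hy)), ext1_of_mem hs, ← map_mul]
            rfl
        rw [e]
        refine list_prod_mem fun y hy => ?_
        obtain ⟨s, hs, rfl⟩ := List.mem_map.1 hy
        exact Subgroup.subset_closure ⟨s, hL s hs, rfl⟩
      have h2 : φ (l⁻¹ * x) ∈ (P.B.subgroupOf (P.parabolic J)).map φ ⊓
          (P.N.subgroupOf (P.parabolic J)).map φ :=
        ⟨(mem_map_B hker).2 hLe, Subgroup.mem_map_of_mem φ (Subgroup.mem_subgroupOf.2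
          (mul_mem (inv_mem (hLr.1.mem_N P)) hx))⟩
      rw [show φ x = φ l * φ (l⁻¹ * x) by rw [← map_mul, mul_inv_cancel_left]]
      exact mul_mem (Subgroup.mem_sup_left h1) (Subgroup.mem_sup_right h2)
  mul_mem_union := by
    rintro _ ⟨s, hs, rfl⟩ _ ⟨n, hn, rfl⟩ c hc
    obtain ⟨b, hb, rfl⟩ := hc
    have hsJ := mem_parabolic_of_mem P hs
    rw [ext1_of_mem hsJ, ← map_mul φ, ← map_mul, ← map_mul]
    have key : ∀ m : ↥(P.parabolic J), s * (b : G) * n ∈ cell P (m : G) →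
        φ (⟨s, hsJ⟩ * b * n) ∈ DoubleCoset.doubleCoset (φ m)
          ((P.B.subgroupOf (P.parabolic J)).map φ : Set X)
          ((P.B.subgroupOf (P.parabolic J)).map φ) := by
      intro m h
      obtain ⟨c, hc, d, hd, e⟩ := (mem_cell P).1 h
      refine DoubleCoset.mem_doubleCoset.2 ⟨φ ⟨c, B_le_parabolic P J hc⟩,
        Subgroup.mem_map_of_mem φ (Subgroup.mem_subgroupOf.2 hc), φ ⟨d, B_le_parabolic P J hd⟩,
        Subgroup.mem_map_of_mem φ (Subgroup.mem_subgroupOf.2 hd), ?_⟩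
      rw [← map_mul, ← map_mul]
      congr 1
      exact Subtype.ext e
    rcases P.mul_mem_union s (hJ hs) n hn b hb with h | h
    · exact Or.inl (key ((⟨s, hsJ⟩ : ↥(P.parabolic J)) * n) h)
    · exact Or.inr (key n h)
  conj_ne := by
    rintro _ ⟨s, hs, rfl⟩ h
    have hsJ := mem_parabolic_of_mem P hs
    rw [ext1_of_mem hsJ] at h
    apply P.conj_ne s (hJ hs)
    ext x
    constructor
    · rintro ⟨b, hb, rfl⟩
      have h1 : φ ⟨s, hsJ⟩ * φ ⟨b, B_le_parabolic P J hb⟩ * φ ⟨s, hsJ⟩ ∈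
          ((P.B.subgroupOf (P.parabolic J)).map φ : Set X) := by
        rw [← h]
        exact ⟨_, Subgroup.mem_map_of_mem φ (Subgroup.mem_subgroupOf.2 hb), rfl⟩
      rw [← map_mul, ← map_mul] at h1
      exact (mem_map_B hker).1 h1
    · intro hx
      have h1 : φ ⟨x, B_le_parabolic P J hx⟩ ∈
          (fun b : X => φ ⟨s, hsJ⟩ * b * φ ⟨s, hsJ⟩) ''
            ((P.B.subgroupOf (P.parabolic J)).map φ : Set X) := by
        rw [h]
        exact Subgroup.mem_map_of_mem φ (Subgroup.mem_subgroupOf.2 hx)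
      obtain ⟨_, ⟨y, hy, rfl⟩, e⟩ := h1
      refine ⟨s⁻¹ * x * s⁻¹, ?_, by group⟩
      have h2 : φ (y⁻¹ * (⟨s, hsJ⟩⁻¹ * ⟨x, B_le_parabolic P J hx⟩ * ⟨s, hsJ⟩⁻¹)) = 1 := by
        simp only [map_mul, map_inv, ← e]
        group
      have h3 := mul_mem (show (y : G) ∈ P.B from hy) (hker _ h2)
      simpa [mul_assoc] using h3

theorem quotPair_parabolic {K : Set G} (hK : K ⊆ J) :
    (quotPair hker hJ hφ).parabolic (ext1 φ '' K) =
      ((P.parabolic K).subgroupOf (P.parabolic J)).map φ := by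
  have hKJ : K ⊆ P.parabolic J := fun x hx => mem_parabolic_of_mem P (hK hx)
  set K' : Set ↥(P.parabolic J) := Subtype.val ⁻¹' K
  have e1 : ext1 φ '' K = φ '' K' := by
    ext z
    constructor
    · rintro ⟨s, hs, rfl⟩
      exact ⟨⟨s, hKJ hs⟩, hs, (ext1_of_mem _).symm⟩
    · rintro ⟨s, hs, rfl⟩
      exact ⟨s, hs, ext1_of_mem s.2⟩
  show (P.B.subgroupOf (P.parabolic J)).map φ ⊔ Subgroup.closure (ext1 φ '' K) = _
  rw [e1, ← MonoidHom.map_closure, ← Subgroup.map_sup]
  congr 1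
  apply Subgroup.map_injective (f := (P.parabolic J).subtype) Subtype.coe_injective
  rw [Subgroup.map_sup, MonoidHom.map_closure,
    Subgroup.map_subgroupOf_eq_of_le (B_le_parabolic P J),
    Subgroup.map_subgroupOf_eq_of_le (parabolic_mono P hK)]
  show P.B ⊔ Subgroup.closure _ = P.B ⊔ Subgroup.closure K
  congr 2
  ext z
  exact ⟨fun ⟨y, hy, e⟩ => e ▸ hy, fun hz => ⟨⟨z, hKJ hz⟩, hz, rfl⟩⟩

end Cfsg.Agent.SteinbergCount82
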