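import Cfsg.Agent.SteinbergCount82.Main
import Cfsg.Agent.Lib.Steinberg.Chev

/-!
The parabolic data of the seven Chevalley groups.
-/

set_option autoImplicit false

namespace Cfsg.Agent.SteinbergCount82

open Cfsg.Lie Cfsg.Agent.ChevCore Cfsg.Agent.ChevGroup

variable {D : ChevalleyDatum}

theorem coef_actW_linear (hG : Good D) : ∀ {w : List ℕ}, (∀ i ∈ w, i < D.rank) →
    ∀ {r : ℕ}, r < D.nroots → ∀ {l : ℕ}, l < D.rank →
      coef D (actW D w r) l =
        ∑ k ∈ Finset.range D.rank, coef D r k * coef D (actW D w (D.simple k)) l := by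
  intro w
  induction w with
  | nil =>
    intro _ r hr l hl
    rw [Finset.sum_eq_single l]
    · show coef D r l = coef D r l * coef D (D.simple l) l
      rw [hG.coef_simple hl hl, if_pos rfl, mul_one]
    · intro k hk hne
      show coef D r k * coef D (D.simple k) l = 0
      rw [hG.coef_simple (Finset.mem_range.1 hk) hl, if_neg (Ne.symm hne), mul_zero]
    · intro h; exact absurd (Finset.mem_range.2 hl) h
  | cons i w ih =>
    intro hw r hr l hl
    have hi := hw i List.mem_cons_self
    have hw' : ∀ j ∈ w, j < D.rank := fun j hj => hw j (List.mem_cons_of_mem _ hj)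
    have hlt := hG.actW_lt hw' hr
    simp only [actW_cons]
    rw [hG.coef_refl hi hlt hl, ih hw' hr hl, hG.cartan_eq hlt hi]
    have e : ∀ k ∈ Finset.range D.rank,
        coef D r k * coef D (D.reflectRoot i (actW D w (D.simple k))) l =
          coef D r k * coef D (actW D w (D.simple k)) l - if l = i then
            coef D r k * ∑ m ∈ Finset.range D.rank,
              coef D (actW D w (D.simple k)) m * D.cartan i (D.simple m) else 0 := by
      intro k hk
      have hk' := hG.actW_lt hw' (hG.simple_lt (Finset.mem_range.1 hk))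
      rw [hG.coef_refl hi hk' hl, hG.cartan_eq hk' hi]
      split_ifs <;> ring
    rw [Finset.sum_congr rfl e, Finset.sum_sub_distrib]
    congr 1
    split_ifs
    · simp only [Finset.mul_sum]
      rw [Finset.sum_comm]
      refine Finset.sum_congr rfl fun m hm => ?_
      rw [ih hw' hr (Finset.mem_range.1 hm), Finset.sum_mul]
      exact Finset.sum_congr rfl fun k _ => by ring
    · simp

theorem actW_mem_subJ (hG : Good D) {J : Set ℕ} : ∀ {w : List ℕ}, (∀ i ∈ w, i < D.rank ∧ i ∈ J) →
    ∀ {r : ℕ}, r < D.nroots → r ∈ subJ D J → actW D w r ∈ subJ D J := by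
  intro w
  induction w with
  | nil => intro _ r _ h; exact h
  | cons i w ih =>
    intro hw r hr h k hk hkJ
    have hi := hw i List.mem_cons_self
    have hw' : ∀ j ∈ w, j < D.rank ∧ j ∈ J := fun j hj => hw j (List.mem_cons_of_mem _ hj)
    rw [actW_cons, hG.coef_refl hi.1 (hG.actW_lt (fun j hj => (hw' j hj).1) hr) hk,
      ih hw' hr h k hk hkJ, if_neg (by rintro rfl; exact hkJ hi.2), sub_zero]

/-- A word in `J` inverting every positive root supported on `J`. -/
theorem exists_word_neg (hG : Good D) (J : Set ℕ) :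
    ∃ w : List ℕ, (∀ i ∈ w, i < D.rank ∧ i ∈ J) ∧
      ∀ r < D.nroots, 1 ≤ ht D r → r ∈ subJ D J → ht D (actW D w r) ≤ -1 := by
  classical
  let I : List ℕ → Finset ℕ := fun w =>
    (Finset.range D.nroots).filter fun r => 1 ≤ ht D r ∧ r ∈ subJ D J ∧ ht D (actW D w r) ≤ -1
  have hex : ∃ k, ∃ w : List ℕ, (∀ i ∈ w, i < D.rank ∧ i ∈ J) ∧ D.nroots - (I w).card = k :=
    ⟨_, [], by simp, rfl⟩
  obtain ⟨w, hw, hk⟩ := Nat.find_spec hex
  have hw' : ∀ i ∈ w, i < D.rank := fun i hi => (hw i hi).1
  have hsimple : ∀ j < D.rank, j ∈ J → ht D (actW D w (D.simple j)) ≤ -1 := by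
    intro j hj hjJ
    have hp := hG.simple_lt hj
    by_contra hcon
    have hpos : 0 < ht D (actW D w (D.simple j)) := by
      have := hG.ht_ne_zero (hG.actW_lt hw' hp); omega
    have hw2 : ∀ i ∈ w ++ [j], i < D.rank ∧ i ∈ J := by
      intro i hi
      rcases List.mem_append.1 hi with hi | hi
      · exact hw i hi
      · rw [List.mem_singleton.1 hi]; exact ⟨hj, hjJ⟩
    have happ : ∀ r, actW D (w ++ [j]) r = actW D w (D.reflectRoot j r) := fun r => by
      rw [actW_append, actW_cons, actW_nil]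
    have hsub : ∀ {r : ℕ}, r < D.nroots → r ∈ subJ D J → D.reflectRoot j r ∈ subJ D J := by
      intro r hr h
      exact actW_mem_subJ hG (w := [j]) (by simp [hj, hjJ]) hr h
    have hnegj : ht D (actW D (w ++ [j]) (D.simple j)) ≤ -1 := by
      rw [happ, hG.refl_simple hj, hG.actW_neg hw' hp, hG.ht_neg (hG.actW_lt hw' hp)]
      omega
    have hmap : (I w).image (D.reflectRoot j) ⊆ (I (w ++ [j])).erase (D.simple j) := by
      intro y hy
      obtain ⟨r, hr, rfl⟩ := Finset.mem_image.1 hy
      simp only [I, Finset.mem_filter, Finset.mem_range] at hr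
      obtain ⟨hr, h1, h2, h3⟩ := hr
      have hne : r ≠ D.simple j := by rintro rfl; omega
      refine Finset.mem_erase.2 ⟨hG.refl_ne_simple hj hr (by omega), ?_⟩
      simp only [I, Finset.mem_filter, Finset.mem_range]
      have h4 := hG.refl_pos hj hr (by omega) hne
      refine ⟨hG.refl_lt hj hr, by omega, hsub hr h2, ?_⟩
      rwa [happ, hG.refl_refl hj hr]
    have hmem : D.simple j ∈ I (w ++ [j]) := by
      simp only [I, Finset.mem_filter, Finset.mem_range]
      exact ⟨hp, by rw [hG.ht_simple hj], hG.simple_mem_subJ hj hjJ, hnegj⟩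
    have hcard := Finset.card_le_card hmap
    rw [Finset.card_image_of_injOn (fun a ha b hb e => by
        simp only [I, Finset.coe_filter, Finset.mem_range, Set.mem_ofPred_eq] at ha hb
        have := congrArg (D.reflectRoot j) e
        rwa [hG.refl_refl hj ha.1, hG.refl_refl hj hb.1] at this),
      Finset.card_erase_of_mem hmem] at hcard
    have hle : (I (w ++ [j])).card ≤ D.nroots :=
      (Finset.card_filter_le _ _).trans_eq (Finset.card_range _)
    have hpos' : 0 < (I (w ++ [j])).card := Finset.card_pos.2 ⟨_, hmem⟩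
    have := Nat.find_min' hex ⟨w ++ [j], hw2, rfl⟩
    omega
  refine ⟨w, hw, fun r hr hp hrJ => ?_⟩
  have hlt := hG.actW_lt hw' hr
  have h1 : ht D (actW D w r) =
      ∑ k ∈ Finset.range D.rank, coef D r k * ht D (actW D w (D.simple k)) := by
    rw [hG.ht_eq hlt, Finset.sum_congr rfl fun l hl =>
      coef_actW_linear hG hw' hr (Finset.mem_range.1 hl), Finset.sum_comm]
    refine Finset.sum_congr rfl fun k hk => ?_
    rw [hG.ht_eq (hG.actW_lt hw' (hG.simple_lt (Finset.mem_range.1 hk))), Finset.mul_sum]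
  have h2 : ∀ k ∈ Finset.range D.rank,
      coef D r k * ht D (actW D w (D.simple k)) ≤ -coef D r k := by
    intro k hk
    have hkr := Finset.mem_range.1 hk
    have h0 := hG.coef_nonneg hr (by omega) hkr
    by_cases hkJ : k ∈ J
    · have := hsimple k hkr hkJ
      nlinarith
    · rw [hrJ k hkr hkJ]; simp
  have h3 := Finset.sum_le_sum h2
  rw [← h1, Finset.sum_neg_distrib, ← hG.ht_eq hr] at h3
  omega

variable {F : Type*} [Field F]

/-- The data demanded by the count, inside the matrix group. -/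
theorem exists_radical (hD : D ∈ [chevG2, chevB2, chevD4, chevF4, chevE6, chevE7, chevE8])
    (J : Set ℕ) :
    ∃ V : Subgroup (GL D.Idx F), V ≤ D.posUnipotent F ∧
      D.parabolicSubgroup F J ≤ Subgroup.normalizer (V : Set (GL D.Idx F)) ∧
      ∃ n : GL D.Idx F, n ∈ D.monomialSubgroup F ∧ n ∈ D.parabolicSubgroup F J ∧
        ∀ u ∈ D.posUnipotent F, n⁻¹ * u * n ∈ D.borelSubgroup F → u ∈ V := by
  have hC := commGood_of_mem hD
  have hs := chkSupp_of_mem hD
  have hG := hC.toGood
  obtain ⟨w, hw, hneg⟩ := exists_word_neg hG J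
  have hw' : ∀ i ∈ w, i < D.rank := fun i hi => (hw i hi).1
  set V := D.unipotentRadical F J with hV
  have hVXS : V = XS D F (radJ D J) := hG.unipotentRadical_eq hs J
  have hVU : V ≤ D.posUnipotent F := by
    rw [hVXS, hG.posUnipotent_eq]
    exact XS_mono fun r hr => hr.1
  have hPN := hC.parabolic_le_normalizer (F := F) hs J
  set L : Subgroup (GL D.Idx F) := XS D F {r | 1 ≤ ht D r ∧ r ∈ subJ D J}
  have hLP : L ≤ D.parabolicSubgroup F J := by
    rw [hG.parabolic_eq hs]
    exact le_trans (XS_mono fun r hr => Or.inl hr.1) le_sup_right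
  have hnP : nw D F w ∈ D.parabolicSubgroup F J := hG.nw_mem_parabolic hw
  refine ⟨V, hVU, hPN, (nw D F w)⁻¹, inv_mem (hG.nw_mem_N hw'), inv_mem hnP, fun u hu hub => ?_⟩
  rw [inv_inv] at hub
  have hsup : u ∈ V ⊔ L := by
    have : D.posUnipotent F ≤ V ⊔ L := by
      rw [hG.posUnipotent_eq]
      refine XS_le fun r t hr h => ?_
      by_cases h' : r ∈ subJ D J
      · exact Subgroup.mem_sup_right (xg_mem_XS hr
          (show r ∈ {r | 1 ≤ ht D r ∧ r ∈ subJ D J} from ⟨h, h'⟩) t)
      · refine Subgroup.mem_sup_left ?_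
        rw [hVXS]
        exact xg_mem_XS hr (show r ∈ radJ D J from ⟨h, h'⟩) t
    exact this hu
  rw [← SetLike.mem_coe, Subgroup.coe_mul_of_right_le_normalizer_left V L (hLP.trans hPN)] at hsup
  obtain ⟨v, hv, l, hl, rfl⟩ := hsup
  have hv' : nw D F w * v * (nw D F w)⁻¹ ∈ D.borelSubgroup F :=
    Subgroup.mem_sup_left (hVU ((Subgroup.mem_normalizer_iff.1 (hPN hnP) v).1 hv))
  have hl1 : nw D F w * l * (nw D F w)⁻¹ ∈ D.borelSubgroup F := by
    have e : nw D F w * l * (nw D F w)⁻¹ =
        (nw D F w * v * (nw D F w)⁻¹)⁻¹ * (nw D F w * (v * l) * (nw D F w)⁻¹) := by group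
    rw [e]
    exact mul_mem (inv_mem hv') hub
  have hl2 : nw D F w * l * (nw D F w)⁻¹ ∈ D.negUnipotent F := by
    have hle : L ≤ (D.negUnipotent F).comap (MulAut.conj (nw D F w)).toMonoidHom := by
      refine XS_le fun r t hr h => ?_
      show nw D F w * xg D F r t * (nw D F w)⁻¹ ∈ D.negUnipotent F
      rw [hG.nw_conj_x hw' hr, hG.negUnipotent_eq]
      exact xg_mem_XS (hG.actW_lt hw' hr) (hneg r hr h.1 h.2) _
    exact hle hl
  have hl0 : nw D F w * l * (nw D F w)⁻¹ = 1 := by
    have h : nw D F w * l * (nw D F w)⁻¹ ∈ D.borelSubgroup F ⊓ D.negUnipotent F := ⟨hl1, hl2⟩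
    rwa [hG.borel_inf_neg, Subgroup.mem_bot] at h
  rw [conj_eq_one_iff] at hl0
  show v * l ∈ V
  rw [hl0, mul_one]
  exact hv

universe u

theorem ng_simple_injective (hD : D ∈ [chevG2, chevB2, chevD4, chevF4, chevE6, chevE7, chevE8])
    {i j : ℕ} (hi : i < D.rank) (hj : j < D.rank)
    (e : ng D F (D.simple i) 1 = ng D F (D.simple j) 1) : i = j := by
  have hG := (commGood_of_mem hD).toGood
  by_contra hij
  have hp := hG.simple_lt hi
  have h1 := hG.ng_conj_x (F := F) hi hp 1
  have hneg : ng D F (D.simple i) 1 * xg D F (D.simple i) 1 * (ng D F (D.simple i) 1)⁻¹ ∈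
      D.negUnipotent F := by
    rw [h1, hG.negUnipotent_eq]
    refine xg_mem_XS (hG.refl_lt hi hp) ?_ _
    show ht D (D.reflectRoot i (D.simple i)) ≤ -1
    rw [hG.refl_simple hi, hG.ht_neg hp, hG.ht_simple hi]
  have hpos : ng D F (D.simple i) 1 * xg D F (D.simple i) 1 * (ng D F (D.simple i) 1)⁻¹ ∈
      D.borelSubgroup F := by
    rw [e, hG.ng_conj_x hj hp 1]
    refine Subgroup.mem_sup_left ?_
    rw [hG.posUnipotent_eq]
    refine xg_mem_XS (hG.refl_lt hj hp) ?_ _
    have hne : D.simple i ≠ D.simple j := fun h => hij (hG.simple_inj hi hj h)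
    have h4 := hG.refl_pos hj hp (by rw [hG.ht_simple hi]; omega) hne
    show 1 ≤ ht D (D.reflectRoot j (D.simple i))
    omega
  have h0 : ng D F (D.simple i) 1 * xg D F (D.simple i) 1 * (ng D F (D.simple i) 1)⁻¹ ∈
      D.borelSubgroup F ⊓ D.negUnipotent F := ⟨hpos, hneg⟩
  rw [hG.borel_inf_neg, Subgroup.mem_bot, conj_eq_one_iff] at h0
  exact one_ne_zero (hG.xg_injective hp (h0.trans (hG.xg_zero _).symm))

/-- A split pair on the group with its parabolic data and its Steinberg character. -/
theorem exists_split_levi {F : Type u} [Field F] [Fintype F] (p : ℕ) [Fact p.Prime] [CharP F p]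
    (hD : D ∈ [chevG2, chevB2, chevD4, chevF4, chevE6, chevE7, chevE8])
    [Fintype ↥(D.group F)] :
    ∃ (P : Cfsg.BNPair ↥(D.group F)) (U : Subgroup ↥(D.group F)), Steinberg.Split P p U ∧
      HasLevi P U ∧ Nat.card U = Fintype.card F ^ (D.nroots / 2) ∧
      D.steinbergCharacter F = Steinberg.altSum P := by
  classical
  obtain ⟨T, ⟨wit, hwit⟩, -⟩ := exists_model hD
  have hC := commGood_of_mem hD
  obtain ⟨P, hB, hN, hS⟩ :
      ∃ P : Cfsg.BNPair ↥(D.group F), P.B = (D.borelSubgroup F).subgroupOf (D.group F) ∧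
        P.N = (D.monomialSubgroup F).subgroupOf (D.group F) ∧
        P.S = {n : ↥(D.group F) | ∃ i < D.rank, (n : GL D.Idx F) = ng D F (D.simple i) 1} := by
    set K := Cfsg.Agent.Chev54.rels hC F
    have hinj : Function.Injective T.S.simple := fun i j h => Fin.ext
      (hC.toGood.simple_inj (T.lt_l i) (T.lt_l j) (by rw [← T.simple_eq, ← T.simple_eq, h]))
    obtain ⟨P, hB, hN, hS⟩ := exists_bnPair (T.shapeR K) (fun r t => T.x_ne _ r t)
      (T.group_top K hwit) hinj
    refine ⟨P, ?_, ?_, ?_⟩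
    · rw [hB, ← T.B_map K, Subgroup.subgroupOf,
        Subgroup.comap_map_eq_self_of_injective Subtype.coe_injective]
    · rw [hN, ← N_map T hC, Subgroup.subgroupOf,
        Subgroup.comap_map_eq_self_of_injective Subtype.coe_injective]
    · rw [hS]
      ext n
      constructor
      · rintro ⟨i, rfl⟩
        exact ⟨i.val, T.lt_l i, val_engine_n T hC i⟩
      · rintro ⟨i, hi, e⟩
        exact ⟨⟨i, T.l_eq.symm ▸ hi⟩, Subtype.ext ((val_engine_n T hC _).trans e.symm)⟩
  obtain ⟨P', U, hB', hH', hU', hcard, hsplit', -⟩ :=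
    Cfsg.Agent.Steinberg.exists_chev (F := F) hD
  have hsplit := hsplit' p
  have hG := hC.toGood
  have hH : P.B ⊓ P.N = (D.diagonalSubgroup F).subgroupOf (D.group F) := by
    rw [hB, hN, ← borel_inf_monomial hD]
    rfl
  have hbig : ∃ n ∈ P.N, Nat.card U ≤ Steinberg.cardC P n := by
    obtain ⟨w, hw, hneg⟩ := exists_word_neg hG (Set.univ : Set ℕ)
    have hw' : ∀ i ∈ w, i < D.rank := fun i hi => (hw i hi).1
    have hwg : nw D F w ∈ D.group F := hG.monomialSubgroup_le_group (hG.nw_mem_N hw')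
    set n : ↥(D.group F) := ⟨nw D F w, hwg⟩⁻¹
    have hnN : n ∈ P.N := by
      rw [hN, Subgroup.mem_subgroupOf]
      exact inv_mem (hG.nw_mem_N hw')
    refine ⟨n, hnN, Nat.card_le_card_of_injective (fun u : U =>
      (⟨((u.1 * n : ↥(D.group F)) : ↥(D.group F) ⧸ P.B),
        (Steinberg.mk_mem_sch P).2 (BN.mul_mem_cell_left P
          (by rw [hB, ← hB']; exact hsplit.le u.2) (BN.self_mem_cell P _))⟩ :
          Steinberg.sch P n)) ?_⟩
    rintro ⟨u, hu⟩ ⟨u', hu'⟩ e
    have e' := QuotientGroup.eq.1 (congrArg Subtype.val e)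
    rw [hB, Subgroup.mem_subgroupOf] at e'
    rw [hU', Subgroup.mem_subgroupOf] at hu hu'
    refine Subtype.ext (Subtype.ext ?_)
    have h1 : (u : GL D.Idx F)⁻¹ * (u' : GL D.Idx F) ∈ D.posUnipotent F :=
      mul_mem (inv_mem hu) hu'
    have h2 : nw D F w * ((u : GL D.Idx F)⁻¹ * (u' : GL D.Idx F)) * (nw D F w)⁻¹ ∈
        D.borelSubgroup F ⊓ D.negUnipotent F := by
      refine ⟨?_, ?_⟩
      · simpa [n, mul_assoc] using e'
      · have hle : D.posUnipotent F ≤
            (D.negUnipotent F).comap (MulAut.conj (nw D F w)).toMonoidHom := by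
          rw [hG.posUnipotent_eq]
          refine XS_le fun r t hr h => ?_
          show nw D F w * xg D F r t * (nw D F w)⁻¹ ∈ D.negUnipotent F
          rw [hG.nw_conj_x hw' hr, hG.negUnipotent_eq]
          exact xg_mem_XS (hG.actW_lt hw' hr)
            (hneg r hr h fun i _ hi => absurd (Set.mem_univ i) hi) _
        exact hle h1
    rw [hG.borel_inf_neg, Subgroup.mem_bot, conj_eq_one_iff, inv_mul_eq_one] at h2
    exact h2
  have h : Steinberg.Split P p U := by
    refine ⟨by rw [hB, ← hB']; exact hsplit.le, by rw [hB, ← hB']; exact hsplit.conj, hsplit.pgroup,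
      ?_, by rw [hH, ← hH']; exact hsplit.torus, hbig⟩
    rw [hH, hB, ← hH', ← hB']
    exact hsplit.decomp
  have hL : HasLevi P U := by
    intro J hJ
    set J' : Set ℕ := {i | i < D.rank ∧ ∃ g ∈ J, (g : GL D.Idx F) = ng D F (D.simple i) 1}
    obtain ⟨V, hVU, hVn, n, hnN, hnP, hstab⟩ := exists_radical (F := F) hD J'
    have hparle : D.parabolicSubgroup F J' ≤ D.group F := by
      rw [← normalizer_radical_mem hD J']
      exact inf_le_right
    have hpar : P.parabolic J = (D.parabolicSubgroup F J').subgroupOf (D.group F) := by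
      apply Subgroup.map_injective (f := (D.group F).subtype) Subtype.coe_injective
      rw [Subgroup.map_subgroupOf_eq_of_le hparle, hG.parabolic_gen, Cfsg.BNPair.parabolic,
        Subgroup.map_sup, MonoidHom.map_closure, hB,
        Subgroup.map_subgroupOf_eq_of_le (le_trans le_sup_left (by
          rw [← hG.parabolic_gen]; exact hparle))]
      congr 2
      ext x
      constructor
      · rintro ⟨g, hg, rfl⟩
        obtain ⟨i, hi, e⟩ := (show g ∈ _ from hS ▸ hJ hg)
        exact ⟨i, ⟨hi, g, hg, e⟩, hi, e⟩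
      · rintro ⟨i, ⟨-, g, hg, e⟩, -, rfl⟩
        exact ⟨g, hg, e⟩
    have hng : n ∈ D.group F := hG.monomialSubgroup_le_group hnN
    refine ⟨V.subgroupOf (D.group F), by rw [hU']; exact fun x hx => hVU hx, ?_, ⟨n, hng⟩, ?_, ?_,
      fun u hu hfix => ?_⟩
    · intro x hx v hv
      rw [hpar, Subgroup.mem_subgroupOf] at hx
      exact (Subgroup.mem_normalizer_iff.1 (hVn hx) _).1 hv
    · rw [hN, Subgroup.mem_subgroupOf]; exact hnN
    · rw [hpar, Subgroup.mem_subgroupOf]; exact hnP
    · have e := QuotientGroup.eq.1 hfix.symm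
      rw [hB, Subgroup.mem_subgroupOf] at e
      rw [hU', Subgroup.mem_subgroupOf] at hu
      refine Subgroup.mem_subgroupOf.2 (hstab _ hu ?_)
      simpa [mul_assoc] using e
  refine ⟨P, U, h, hL, hcard, funext fun g => ?_⟩
  let f : ℕ → ↥(D.group F) := fun i =>
    if hi : i < D.rank then
      ⟨ng D F (D.simple i) 1, hG.monomialSubgroup_le_group (by
        simpa [nw] using hG.nw_mem_N (F := F) (w := [i]) (by simpa using hi))⟩
    else 1
  have hf : ∀ i < D.rank, (f i : GL D.Idx F) = ng D F (D.simple i) 1 := fun i hi => by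
    simp [f, dif_pos hi]
  have hinjf : Set.InjOn f ↑(Finset.range D.rank) := by
    intro i hi j hj e
    rw [Finset.coe_range, Set.mem_Iio] at hi hj
    have := congrArg (fun x : ↥(D.group F) => (x : GL D.Idx F)) e
    rw [hf i hi, hf j hj] at this
    exact ng_simple_injective hD hi hj this
  have hfin : (Set.toFinite P.S).toFinset = (Finset.range D.rank).image f := by
    ext x
    simp only [Set.Finite.mem_toFinset, hS, Set.mem_ofPred_eq, Finset.mem_image, Finset.mem_range]
    exact ⟨fun ⟨i, hi, e⟩ => ⟨i, hi, Subtype.ext ((hf i hi).trans e.symm)⟩,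
      fun ⟨i, hi, e⟩ => ⟨i, hi, e ▸ hf i hi⟩⟩
  rw [ChevalleyDatum.steinbergCharacter, Steinberg.altSum, hfin, Finset.powerset_image,
    Finset.sum_image]
  · refine Finset.sum_congr rfl fun J hJ => ?_
    have hJr := Finset.mem_powerset.1 hJ
    have hle : D.parabolicSubgroup F (↑J : Set ℕ) ≤ D.group F := by
      rw [← normalizer_radical_mem hD]
      exact inf_le_right
    rw [Finset.card_image_of_injOn (hinjf.mono (Finset.coe_subset.2 hJr))]
    congr 2
    apply Subgroup.map_injective (f := (D.group F).subtype) Subtype.coe_injective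
    rw [ChevalleyDatum.parabolicIn, Subgroup.map_subgroupOf_eq_of_le hle, hG.parabolic_gen,
      Cfsg.BNPair.parabolic, Subgroup.map_sup, MonoidHom.map_closure, hB,
      Subgroup.map_subgroupOf_eq_of_le (le_trans le_sup_left (by
        rw [← hG.parabolic_gen]; exact hle))]
    congr 2
    ext x
    constructor
    · rintro ⟨j, hj, hjr, rfl⟩
      exact ⟨f j, Finset.mem_coe.2 (Finset.mem_image_of_mem f hj), hf j hjr⟩
    · rintro ⟨_, hy, rfl⟩
      obtain ⟨j, hj, rfl⟩ := Finset.mem_image.1 (Finset.mem_coe.1 hy)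
      have hjr := Finset.mem_range.1 (hJr hj)
      exact ⟨j, hj, hjr, hf j hjr⟩
  · intro J hJ J' hJ' e
    refine Finset.coe_injective ((hinjf.image_eq_image_iff
      (Finset.coe_subset.2 (Finset.mem_powerset.1 hJ))
      (Finset.coe_subset.2 (Finset.mem_powerset.1 hJ'))).1 ?_)
    rw [← Finset.coe_image, ← Finset.coe_image]
    exact congrArg _ e

theorem count_chevalley {F : Type u} [Field F] [Fintype F] (p : ℕ) [Fact p.Prime] [CharP F p]
    (hD : D ∈ [chevG2, chevB2, chevD4, chevF4, chevE6, chevE7, chevE8]) :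
    cnt p ↥(D.group F) = Fintype.card F ^ (2 * (D.nroots / 2)) := by
  classical
  let _ : Fintype ↥(D.group F) := Fintype.ofFinite _
  obtain ⟨P, U, h, hL, hcard, -⟩ := exists_split_levi (F := F) p hD
  rw [count_eq h hL, hcard, ← pow_mul, mul_comm]

end Cfsg.Agent.SteinbergCount82
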