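import Cfsg.Prelude.Def_Characters
import Cfsg.Agent.Lib.Steinberg.Alternating
import Cfsg.Agent.Lib.Coprime.Action
import Cfsg.Agent.Lib.CharClifford.Galois
import Mathlib.RepresentationTheory.Invariants
import Mathlib.LinearAlgebra.Trace

/-!
Deflation of characters, regular elements in a coset of a `p`-subgroup, divisibility.
-/

set_option autoImplicit false
set_option linter.unusedSectionVars false

namespace Cfsg.Agent.SteinbergCount82

open scoped Classical

/-- Averaging a character over a normal subgroup gives a character of the quotient. -/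
theorem exists_deflate {A : Type*} [Group A] (N : Subgroup A) [N.Normal] [Fintype N] {χ : A → ℂ}
    (hχ : Cfsg.IsCharacter A χ) :
    ∃ ψ : A ⧸ N → ℂ, Cfsg.IsCharacter (A ⧸ N) ψ ∧
      ∀ a : A, ψ (QuotientGroup.mk a) = (Nat.card N : ℂ)⁻¹ * ∑ n : N, χ (a * n) := by
  obtain ⟨m, ρ, rfl⟩ := hχ
  set W := Representation.invariants (ρ.comp N.subtype) with hW
  set σ := Representation.quotientToInvariants ρ N with hσ
  refine ⟨σ.character, CharCore.isCharacter_character σ, fun a => ?_⟩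
  set e : Module.End ℂ (Fin m → ℂ) := (Nat.card N : ℂ)⁻¹ • ∑ n : N, ρ (n : A) with he
  have hne : (Nat.card N : ℂ) ≠ 0 := Nat.cast_ne_zero.2 Nat.card_pos.ne'
  have heW : ∀ v, e v ∈ W := by
    intro v g
    show ρ (g : A) (e v) = e v
    rw [he]
    simp only [LinearMap.smul_apply, LinearMap.sum_apply, map_smul, map_sum]
    congr 1
    refine Fintype.sum_equiv (Equiv.mulLeft g) _ _ fun n => ?_
    rw [Equiv.coe_mulLeft, Subgroup.coe_mul, map_mul, Module.End.mul_apply]
  have hfix : ∀ v ∈ W, e v = v := by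
    intro v hv
    rw [he]
    simp only [LinearMap.smul_apply, LinearMap.sum_apply]
    rw [Finset.sum_congr rfl fun (n : N) _ => show ρ (n : A) v = v from hv n, Finset.sum_const, Finset.card_univ,
      ← Nat.cast_smul_eq_nsmul ℂ, smul_smul, ← Nat.card_eq_fintype_card, inv_mul_cancel₀ hne,
      one_smul]
  set π : (Fin m → ℂ) →ₗ[ℂ] W := e.codRestrict W heW with hπ
  have h1 : (ρ a) ∘ₗ e = W.subtype ∘ₗ (σ (QuotientGroup.mk a) ∘ₗ π) := LinearMap.ext fun v => rfl
  have h2 : (σ (QuotientGroup.mk a) ∘ₗ π) ∘ₗ W.subtype = σ (QuotientGroup.mk a) := by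
    refine LinearMap.ext fun w => ?_
    show σ (QuotientGroup.mk a) (π w) = _
    rw [show π w = w from Subtype.ext (hfix _ w.2)]
  have h3 : LinearMap.trace ℂ _ (ρ a ∘ₗ e) = σ.character (QuotientGroup.mk a) := by
    rw [h1, LinearMap.trace_comp_comm', h2]
    rfl
  rw [← h3, he, LinearMap.comp_smul, map_smul, smul_eq_mul]
  congr 1
  rw [show (ρ a ∘ₗ ∑ n : N, ρ (n : A)) = ∑ n : N, ρ (a * n) by
    rw [← Module.End.mul_eq_comp, Finset.mul_sum]
    simp only [map_mul], map_sum]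
  rfl

variable {G : Type*} [Group G] [Fintype G] {p : ℕ} [hp : Fact p.Prime]

/-- In the coset of a normalised `p`-subgroup the regular elements are the conjugates. -/
theorem exists_conj_of_regular {V : Subgroup G} (hV : IsPGroup p V) {s : G}
    (hs : ¬ p ∣ orderOf s) (hnorm : s ∈ Subgroup.normalizer (V : Set G)) {v : G} (hv : v ∈ V)
    (hr : ¬ p ∣ orderOf (s * v)) : ∃ n ∈ V, n * (s * v) * n⁻¹ = s := by
  obtain ⟨k, hk⟩ := IsPGroup.iff_card.1 hV
  have hcop : ∀ x : G, ¬ p ∣ orderOf x → (Nat.card (Subgroup.zpowers x)).Coprime (Nat.card V) := by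
    intro x hx
    rw [Nat.card_zpowers, hk]
    exact ((Nat.Prime.coprime_iff_not_dvd hp.out).2 hx).symm.pow_right k
  have hnorm2 : s * v ∈ Subgroup.normalizer (V : Set G) :=
    mul_mem hnorm (Subgroup.le_normalizer hv)
  have hle : Subgroup.zpowers (s * v) ≤ V ⊔ Subgroup.zpowers s := by
    rw [Subgroup.zpowers_le]
    exact mul_mem (Subgroup.mem_sup_right (Subgroup.mem_zpowers s)) (Subgroup.mem_sup_left hv)
  obtain ⟨n, hn, hn'⟩ := Coprime.exists_conj_le V (Subgroup.zpowers (s * v)) (Subgroup.zpowers s)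
    (Subgroup.zpowers_le.2 hnorm2) (Subgroup.zpowers_le.2 hnorm) hle (hcop _ hr) (hcop _ hs)
    (Or.inl (Group.isSolvable_of_comm fun a b => mul_comm' a b))
  refine ⟨n, hn, ?_⟩
  have h1 : s⁻¹ * (n * (s * v) * n⁻¹) ∈ V := by
    have e : s⁻¹ * (n * (s * v) * n⁻¹) = (s⁻¹ * n * s) * v * n⁻¹ := by group
    rw [e]
    exact mul_mem (mul_mem ((Subgroup.mem_normalizer_iff''.1 hnorm n).1 hn) hv) (inv_mem hn)
  have h2 : s⁻¹ * (n * (s * v) * n⁻¹) ∈ Subgroup.zpowers s :=
    mul_mem (inv_mem (Subgroup.mem_zpowers s)) (hn' _ (Subgroup.mem_zpowers _))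
  have h3 : s⁻¹ * (n * (s * v) * n⁻¹) ∈ (Subgroup.zpowers s ⊓ V : Subgroup G) := ⟨h2, h1⟩
  rw [(Subgroup.disjoint_of_coprime_natCard (hcop _ hs)).eq_bot, Subgroup.mem_bot, inv_mul_eq_one] at h3
  exact h3.symm
where
  mul_comm' {x : G} (a b : Subgroup.zpowers x) : a * b = b * a := by
    obtain ⟨i, hi⟩ := Subgroup.mem_zpowers_iff.1 a.2
    obtain ⟨j, hj⟩ := Subgroup.mem_zpowers_iff.1 b.2
    apply Subtype.ext
    rw [Subgroup.coe_mul, Subgroup.coe_mul, ← hi, ← hj, ← zpow_add, ← zpow_add, add_comm]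

/-- A prime power dividing a product is found in the second factor. -/
theorem ppart_dvd {N c i q : ℕ} (hq : q.Prime) (hN : N = c * i) (hc : c ≠ 0) (hi : i ≠ 0) {z : ℤ}
    (h : ((q ^ N.factorization q : ℕ) : ℤ) ∣ (i : ℤ) * z) :
    ((q ^ c.factorization q : ℕ) : ℤ) ∣ z := by
  set a := i.factorization q
  have h1 : N.factorization q = c.factorization q + a := by
    rw [hN, Nat.factorization_mul hc hi, Finsupp.add_apply]
  set i' := i / q ^ a with hi'
  have h2 : q ^ a * i' = i := Nat.ordProj_mul_ordCompl_eq_self i q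
  rw [h1, pow_add, ← h2, Nat.cast_mul, Nat.cast_mul, mul_comm ((q ^ c.factorization q : ℕ) : ℤ),
    mul_assoc] at h
  have hne : ((q ^ a : ℕ) : ℤ) ≠ 0 := by exact_mod_cast pow_ne_zero _ hq.ne_zero
  have h3 := Int.dvd_of_mul_dvd_mul_left hne h
  have hcop : IsCoprime ((q ^ c.factorization q : ℕ) : ℤ) (i' : ℤ) :=
    Nat.isCoprime_iff_coprime.2
      (Nat.Coprime.pow_left _ ((Nat.Prime.coprime_iff_not_dvd hq).2 (Nat.not_dvd_ordCompl hq hi)))
  exact hcop.dvd_of_dvd_mul_left h3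

end Cfsg.Agent.SteinbergCount82
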