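import Cfsg.Agent.SteinbergCount82.Main
import Cfsg.Agent.SteinbergCount82.Deflate
import Cfsg.Agent.Lib.BlocksCore.Omega

/-!
The Steinberg character at the elements of order prime to `p`.
-/

set_option autoImplicit false
set_option linter.unusedSectionVars false

namespace Cfsg.Agent.SteinbergCount82

open Cfsg.Agent.BN
open Cfsg.Agent.Steinberg (Split)
open scoped Classical

variable {G : Type*} [Group G] [Fintype G] {P : Cfsg.BNPair G} {p : ℕ} [hp : Fact p.Prime]
  {U : Subgroup G} (h : Split P p U) (hL : HasLevi P U)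

theorem parabolic_eq_top (P : Cfsg.BNPair G) : P.parabolic P.S = ⊤ := by
  rw [eq_top_iff, ← P.sup_eq_top]
  refine sup_le (B_le_parabolic P _) ?_
  intro n hn
  obtain ⟨L, hL', he⟩ := exists_word P hn
  exact inter_N_eqv P he (word_mem_parabolic P hL')

/-- The Steinberg character takes rational integral values. -/
theorem stChar_int (P : Cfsg.BNPair G) (g : G) : ∃ z : ℤ, Steinberg.stChar P g = (z : ℂ) := by
  rw [← Steinberg.altSum_eq_stChar]
  refine ⟨∑ J ∈ (Set.toFinite P.S).toFinset.powerset, (-1 : ℤ) ^ J.card *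
    (Nat.card (MulAction.fixedBy (G ⧸ P.parabolic (↑J : Set G)) g) : ℤ), ?_⟩
  simp [Steinberg.altSum, Cfsg.fixedPointCharacter]

include h in
/-- The value is divisible by the `p`-part of the order of the centraliser. -/
theorem ppart_dvd_value {s : G} {z : ℤ} (hz : Steinberg.stChar P s = (z : ℂ)) :
    ((p ^ (Nat.card (Subgroup.centralizer ({s} : Set G))).factorization p : ℕ) : ℤ) ∣ z := by
  set C := Subgroup.centralizer ({s} : Set G)
  set χ : Cfsg.IrrCharacter G := ⟨Steinberg.stChar P, Steinberg.isIrrCharacter_stChar P⟩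
  have h1 := BlocksCore.isIntegral_centralChar χ s
  have h2 : Cfsg.centralChar (χ : G → ℂ) s =
      ((((C.index : ℤ) * z : ℤ) : ℚ) / (Nat.card U : ℚ) : ℚ) := by
    show ((C.index : ℂ) * Steinberg.stChar P s) / Steinberg.stChar P 1 = _
    rw [hz, h.stChar_one]
    push_cast
    rfl
  rw [h2] at h1
  obtain ⟨k, hk⟩ := CharClifford.exists_int_of_isIntegral_rat h1
  have hU : (Nat.card U : ℚ) ≠ 0 := Nat.cast_ne_zero.2 Nat.card_pos.ne'
  rw [div_eq_iff hU] at hk
  have h3 : (C.index : ℤ) * z = k * (Nat.card U : ℤ) := by exact_mod_cast hk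
  refine ppart_dvd hp.out C.card_mul_index.symm Nat.card_pos.ne'
    Subgroup.index_ne_zero_of_finite ⟨k, ?_⟩
  rw [h3, h.card_U_eq]
  ring

theorem sum_stChar_parabolic_eq {J K : Finset G} (hK : (↑K : Set G) ⊆ P.S) (_hKJ : K ⊆ J)
    (V : Subgroup G) (hVK : V ≤ P.parabolic (↑K : Set G)) :
    ∑ a : P.parabolic (↑K : Set G), ∑ v : V, Steinberg.stChar P ((a : G) * v) =
      (Nat.card V : ℂ) * if K = ∅ then (Nat.card P.B : ℂ) else 0 := by
  have h1 : ∀ v : V, ∑ a : P.parabolic (↑K : Set G), Steinberg.stChar P ((a : G) * v) =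
      ∑ a : P.parabolic (↑K : Set G), Steinberg.stChar P (a : G) := fun v =>
    Fintype.sum_equiv (Equiv.mulRight (⟨v, hVK v.2⟩ : P.parabolic (↑K : Set G))) _
      (fun a : P.parabolic (↑K : Set G) => Steinberg.stChar P (a : G)) fun a => rfl
  rw [Finset.sum_comm, Finset.sum_congr rfl fun v _ => h1 v,
    Finset.sum_const, Finset.card_univ, Steinberg.sum_stChar_subgroup P hK, nsmul_eq_mul,
    Nat.card_eq_fintype_card]
  simp [Finset.coe_eq_empty]

/-- Summing over a subgroup and over its image. -/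
theorem sum_map_mul {A X : Type*} [Group A] [Fintype A] [Group X] [Fintype X] (φ : A →* X)
    (H : Subgroup A) (f : X → ℂ) :
    (Nat.card (H.map φ) : ℂ) * ∑ a : H, f (φ a) = (Nat.card H : ℂ) * ∑ x : H.map φ, f x := by
  set g := φ.subgroupMap H with hg
  have hgs : Function.Surjective g := φ.subgroupMap_surjective H
  have hcard : Nat.card H = Nat.card (H.map φ) * Nat.card g.ker := by
    rw [Subgroup.card_eq_card_quotient_mul_card_subgroup g.ker,
      Nat.card_congr (QuotientGroup.quotientKerEquivOfSurjective g hgs).toEquiv]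
  have hconst : ∀ x : H.map φ, (∑ a ∈ Finset.univ.filter (fun a => g a = x), f (φ a)) =
      (Nat.card g.ker : ℂ) * f x := by
    intro x
    obtain ⟨a0, ha0⟩ := hgs x
    rw [Finset.sum_congr rfl (g := fun _ => f x) fun a ha => by
        have := (Finset.mem_filter.1 ha).2
        rw [← this]; rfl,
      Finset.sum_const, nsmul_eq_mul, Nat.card_eq_fintype_card]
    congr 2
    rw [Fintype.card_subtype]
    refine Finset.card_equiv (Equiv.mulLeft a0⁻¹) fun a => ?_
    simp only [Finset.mem_filter, Finset.mem_univ, true_and, Equiv.coe_mulLeft,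
      MonoidHom.mem_ker, map_mul, map_inv, inv_mul_eq_one]
    exact ⟨fun e => (ha0.trans e.symm), fun e => e.symm.trans ha0⟩
  rw [← Finset.sum_fiberwise Finset.univ (fun a => g a) (fun a : H => f (φ a))]
  simp only [hconst, ← Finset.mul_sum]
  rw [hcard]
  push_cast
  ring

include h hL in
/-- Up to sign, the value is the `p`-part of the order of the centraliser. -/
theorem value_regular {s₀ : G} (hs₀ : ¬ p ∣ orderOf s₀) :
    Steinberg.stChar P s₀ =
        ((p ^ (Nat.card (Subgroup.centralizer ({s₀} : Set G))).factorization p : ℕ) : ℂ) ∨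
      Steinberg.stChar P s₀ =
        -((p ^ (Nat.card (Subgroup.centralizer ({s₀} : Set G))).factorization p : ℕ) : ℂ) := by
  -- the least parabolic subgroup containing a conjugate
  have hex : ∃ k, ∃ J : Finset G, (↑J : Set G) ⊆ P.S ∧
      (∃ g : G, g * s₀ * g⁻¹ ∈ P.parabolic (↑J : Set G)) ∧ J.card = k := by
    refine ⟨_, (Set.toFinite P.S).toFinset, by rw [Set.Finite.coe_toFinset], ⟨1, ?_⟩, rfl⟩
    rw [Set.Finite.coe_toFinset, parabolic_eq_top]
    trivial
  obtain ⟨J, hJ, ⟨g, hg⟩, hJk⟩ := Nat.find_spec hex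
  set s := g * s₀ * g⁻¹ with hsdef
  have hord : orderOf s = orderOf s₀ := MulEquiv.orderOf_eq (MulAut.conj g) s₀
  have hs : ¬ p ∣ orderOf s := by rwa [hord]
  have hval : Steinberg.stChar P s = Steinberg.stChar P s₀ :=
    Steinberg.stChar_isClassFunction P s₀ g
  have hcent : Nat.card (Subgroup.centralizer ({s} : Set G)) =
      Nat.card (Subgroup.centralizer ({s₀} : Set G)) := by
    refine (Nat.card_congr ((MulAut.conj g).toEquiv.subtypeEquiv fun x => ?_)).symm
    simp only [MulEquiv.toEquiv_eq_coe, EquivLike.coe_coe, MulAut.conj_apply,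
      Subgroup.mem_centralizer_singleton_iff, hsdef]
    constructor
    · intro e
      calc g * x * g⁻¹ * (g * s₀ * g⁻¹) = g * (x * s₀) * g⁻¹ := by group
        _ = g * (s₀ * x) * g⁻¹ := by rw [e]
        _ = g * s₀ * g⁻¹ * (g * x * g⁻¹) := by group
    · intro e
      have := congrArg (fun y => g⁻¹ * y * g) e
      simpa [mul_assoc] using this
  rw [← hval, ← hcent]
  clear hval hcent hord
  have hmin : ∀ K : Finset G, K ⊂ J → ∀ x : G, x * s * x⁻¹ ∉ P.parabolic (↑K : Set G) := by
    intro K hK x hx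
    have := Nat.find_min' hex ⟨K, (Finset.coe_subset.2 hK.1).trans hJ,
      ⟨x * g, by rw [show x * g * s₀ * (x * g)⁻¹ = x * s * x⁻¹ by rw [hsdef]; group]; exact hx⟩,
      rfl⟩
    have := Finset.card_lt_card hK
    omega
  obtain ⟨V, hVU, hVn, n, hn, hnJ, hstab⟩ := hL (↑J) hJ
  have hVB : V ≤ P.B := hVU.trans h.le
  set PJ := P.parabolic (↑J : Set G) with hPJ
  have hVJ : V ≤ PJ := hVB.trans (B_le_parabolic P _)
  have hnorm : (V.subgroupOf PJ).Normal :=
    ⟨fun v hv x => Subgroup.mem_subgroupOf.2 (hVn x x.2 v (Subgroup.mem_subgroupOf.1 hv))⟩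
  set φ : ↥PJ →* ↥PJ ⧸ V.subgroupOf PJ := QuotientGroup.mk' _
  have hφ : Function.Surjective φ := QuotientGroup.mk'_surjective _
  have hmem : ∀ x : ↥PJ, φ x = 1 ↔ (x : G) ∈ V := fun x => by
    rw [show φ x = (x : ↥PJ ⧸ V.subgroupOf PJ) from rfl, QuotientGroup.eq_one_iff]
    exact Subgroup.mem_subgroupOf
  have hker : ∀ x : ↥PJ, φ x = 1 → (x : G) ∈ P.B := fun x hx => hVB ((hmem x).1 hx)
  let _ : Fintype (↥PJ ⧸ V.subgroupOf PJ) := Fintype.ofFinite _
  set Q := quotPair hker hJ hφ with hQ
  have hsplit := levi_split h hJ hVU hφ hmem hn hnJ hstab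
  have hVp : IsPGroup p V := h.pgroup.to_le hVU
  have hVne : (Nat.card V : ℂ) ≠ 0 := Nat.cast_ne_zero.2 Nat.card_pos.ne'
  -- the averaged character
  obtain ⟨ψ, hψc, hψ0⟩ := exists_deflate (V.subgroupOf PJ)
    (CharCore.isCharacter_restrict
      (CharCore.isCharacter_character (Steinberg.stSub P).toRepresentation) PJ)
  have hψ : ∀ a : ↥PJ, ψ (φ a) = (Nat.card V : ℂ)⁻¹ * ∑ v : V, Steinberg.stChar P ((a : G) * v) := by
    intro a
    refine (hψ0 a).trans ?_
    rw [Nat.card_congr (Subgroup.subgroupOfEquivOfLe hVJ).toEquiv]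
    congr 1
    exact Fintype.sum_equiv (Subgroup.subgroupOfEquivOfLe hVJ).toEquiv _ _ fun v => rfl
  have hψone : ψ 1 = (Nat.card ((U.subgroupOf PJ).map φ) : ℂ) := by
    have e1 : Nat.card ((U.subgroupOf PJ).map φ) * Nat.card V = Nat.card U := by
      set f := φ.subgroupMap (U.subgroupOf PJ)
      have hfs : Function.Surjective f := φ.subgroupMap_surjective _
      have hfk : Nat.card f.ker = Nat.card V := Nat.card_congr
        { toFun := fun x => ⟨((x.1 : ↥PJ) : G), (hmem _).1 (congrArg Subtype.val x.2)⟩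
          invFun := fun v => ⟨⟨⟨v.1, hVJ v.2⟩, Subgroup.mem_subgroupOf.2 (hVU v.2)⟩,
            Subtype.ext ((hmem _).2 v.2)⟩
          left_inv := fun x => rfl
          right_inv := fun v => rfl }
      rw [← hfk, ← Nat.card_congr
          (Subgroup.subgroupOfEquivOfLe (h.le.trans (B_le_parabolic P (↑J : Set G)))).toEquiv,
        Subgroup.card_eq_card_quotient_mul_card_subgroup f.ker,
        Nat.card_congr (QuotientGroup.quotientKerEquivOfSurjective f hfs).toEquiv]
    have e2 : ∑ v : V, Steinberg.stChar P (((1 : ↥PJ) : G) * v) = (Nat.card U : ℂ) := by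
      rw [Finset.sum_eq_single 1]
      · simp [h.stChar_one]
      · intro v _ hv
        refine h.stChar_eq_zero ?_
        obtain ⟨j, hj⟩ := IsPGroup.iff_orderOf.1 hVp v
        have hj0 : j ≠ 0 := fun e => hv (by rw [← orderOf_eq_one_iff, hj, e, pow_zero])
        rw [OneMemClass.coe_one, one_mul, Subgroup.orderOf_coe, hj]
        exact dvd_pow_self p hj0
      · simp
    rw [← map_one φ, hψ, e2, ← e1, Nat.cast_mul, mul_comm _ (Nat.card V : ℂ),
      inv_mul_cancel_left₀ hVne]
  -- inner product with the Steinberg character of the quotient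
  have hinj : Set.InjOn (ext1 φ) ↑J := by
    intro a ha b hb e
    rw [ext1_of_mem (mem_parabolic_of_mem P ha), ext1_of_mem (mem_parabolic_of_mem P hb)] at e
    refine P.inj a (hJ ha) b (hJ hb) ?_
    exact hker (⟨a, mem_parabolic_of_mem P ha⟩⁻¹ * ⟨b, mem_parabolic_of_mem P hb⟩)
      (by rw [map_mul, map_inv, e, inv_mul_cancel])
  have hSfin : (Set.toFinite Q.S).toFinset.powerset = J.powerset.image (Finset.image (ext1 φ)) := by
    rw [← Finset.powerset_image]
    congr 1
    refine Finset.coe_injective ?_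
    rw [Set.Finite.coe_toFinset, Finset.coe_image]
    rfl
  have halt : ∀ x, Steinberg.stChar Q x = ∑ K ∈ J.powerset, (-1 : ℂ) ^ K.card *
      Cfsg.fixedPointCharacter (((P.parabolic (↑K : Set G)).subgroupOf PJ).map φ) x := by
    intro x
    rw [← Steinberg.altSum_eq_stChar, Steinberg.altSum, hSfin, Finset.sum_image]
    · refine Finset.sum_congr rfl fun K hK => ?_
      have hKJ := Finset.coe_subset.2 (Finset.mem_powerset.1 hK)
      rw [Finset.card_image_of_injOn (hinj.mono hKJ), Finset.coe_image,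
        quotPair_parabolic hker hJ hφ hKJ]
    · intro K hK K' hK' e
      have hK1 := Finset.mem_powerset.1 hK
      have hK2 := Finset.mem_powerset.1 hK'
      ext a
      constructor
      · intro ha
        have h1 : ext1 φ a ∈ Finset.image (ext1 φ) K' := e ▸ Finset.mem_image_of_mem _ ha
        obtain ⟨b, hb, e'⟩ := Finset.mem_image.1 h1
        rwa [← hinj (hK2 hb) (hK1 ha) e']
      · intro ha
        have h1 : ext1 φ a ∈ Finset.image (ext1 φ) K := e.symm ▸ Finset.mem_image_of_mem _ ha
        obtain ⟨b, hb, e'⟩ := Finset.mem_image.1 h1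
        rwa [← hinj (hK1 hb) (hK2 ha) e']
  have hψcl := CharCore.IsCharacter.isClassFunction hψc
  have hone : ∑ x, ψ x * Steinberg.stChar Q x = (Nat.card (↥PJ ⧸ V.subgroupOf PJ) : ℂ) := by
    simp only [halt, Finset.mul_sum]
    rw [Finset.sum_comm, Finset.sum_eq_single_of_mem (∅ : Finset G) (Finset.empty_mem_powerset J)]
    · simp only [Finset.card_empty, pow_zero, one_mul]
      rw [Steinberg.sum_classFunction_perm _ (f := ψ) fun a b => hψcl a b]
      set M := ((P.parabolic (↑(∅ : Finset G) : Set G)).subgroupOf PJ).map φ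
      have e : ∑ x : M, ψ x = (Nat.card M : ℂ) := by
        have hle : P.parabolic (↑(∅ : Finset G) : Set G) ≤ PJ :=
          parabolic_mono P (by simp)
        have hB : P.parabolic (↑(∅ : Finset G) : Set G) = P.B := by simp [Cfsg.BNPair.parabolic]
        have hVe : V ≤ P.parabolic (↑(∅ : Finset G) : Set G) := hB.symm ▸ hVB
        have hcardB : Nat.card ↥((P.parabolic (↑(∅ : Finset G) : Set G)).subgroupOf PJ) =
            Nat.card P.B := by
          rw [Nat.card_congr (Subgroup.subgroupOfEquivOfLe hle).toEquiv]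
          exact congrArg (fun H : Subgroup G => Nat.card H) hB
        have hsum : ∑ a : ↥((P.parabolic (↑(∅ : Finset G) : Set G)).subgroupOf PJ), ψ (φ a) =
            (Nat.card P.B : ℂ) := by
          rw [Fintype.sum_equiv (Subgroup.subgroupOfEquivOfLe hle).toEquiv _
            (fun a => (Nat.card V : ℂ)⁻¹ * ∑ v : V, Steinberg.stChar P ((a : G) * v)) fun a => hψ a,
            ← Finset.mul_sum, sum_stChar_parabolic_eq (J := J) (by simp) (by simp) V hVe, if_pos rfl,
            inv_mul_cancel_left₀ hVne]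
        have h1 := sum_map_mul φ ((P.parabolic (↑(∅ : Finset G) : Set G)).subgroupOf PJ) ψ
        rw [hsum, hcardB, mul_comm] at h1
        exact (mul_left_cancel₀ (Nat.cast_ne_zero.2 Nat.card_pos.ne') h1).symm
      rw [e, ← Nat.cast_mul, mul_comm, Subgroup.card_mul_index]
    · intro K hK hne
      simp only [mul_left_comm (ψ _)]
      rw [← Finset.mul_sum, Steinberg.sum_classFunction_perm _ (f := ψ) fun a b => hψcl a b]
      set M := ((P.parabolic (↑K : Set G)).subgroupOf PJ).map φ
      have hKJ := Finset.mem_powerset.1 hK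
      have hle : P.parabolic (↑K : Set G) ≤ PJ := parabolic_mono P (Finset.coe_subset.2 hKJ)
      have hsum : ∑ a : ↥((P.parabolic (↑K : Set G)).subgroupOf PJ), ψ (φ a) = 0 := by
        rw [Fintype.sum_equiv (Subgroup.subgroupOfEquivOfLe hle).toEquiv _
          (fun a => (Nat.card V : ℂ)⁻¹ * ∑ v : V, Steinberg.stChar P ((a : G) * v)) fun a => hψ a,
          ← Finset.mul_sum, sum_stChar_parabolic_eq (J := J) ((Finset.coe_subset.2 hKJ).trans hJ) hKJ V
            (hVB.trans (B_le_parabolic P _)), if_neg hne, mul_zero, mul_zero]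
      have h1 := sum_map_mul φ ((P.parabolic (↑K : Set G)).subgroupOf PJ) ψ
      rw [hsum, mul_zero] at h1
      rw [(mul_eq_zero.1 h1.symm).resolve_left (Nat.cast_ne_zero.2 Nat.card_pos.ne'), mul_zero,
        mul_zero]
  -- hence the averaged character is the Steinberg character of the quotient
  have hψeq : ψ = Steinberg.stChar Q := by
    set θ : Cfsg.IrrCharacter (↥PJ ⧸ V.subgroupOf PJ) :=
      ⟨Steinberg.stChar Q, Steinberg.isIrrCharacter_stChar Q⟩ with hθ
    have hXne : (Nat.card (↥PJ ⧸ V.subgroupOf PJ) : ℂ) ≠ 0 := Nat.cast_ne_zero.2 Nat.card_pos.ne'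
    have hreal : ∀ x, (starRingEnd ℂ) (Steinberg.stChar Q x) = Steinberg.stChar Q x := fun x =>
      Steinberg.stChar_real Q x
    have hm : Cfsg.classInner ψ (θ : ↥PJ ⧸ V.subgroupOf PJ → ℂ) = 1 := by
      rw [Cfsg.classInner, hθ]
      simp only [hreal]
      rw [hone, inv_mul_cancel₀ hXne]
    obtain ⟨m, hm'⟩ := CharCore.IsCharacter.exists_sum hψc
    have hm1 : m θ = 1 := by
      rw [hm', CharCore.classInner_sum_all] at hm
      exact_mod_cast hm
    have h1 := congrFun hm' 1
    rw [hψone, ← hsplit.stChar_one, Finset.sum_apply, ← Finset.add_sum_erase _ _ (Finset.mem_univ θ)]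
      at h1
    have hdeg : ∀ χ : Cfsg.IrrCharacter (↥PJ ⧸ V.subgroupOf PJ),
        ∃ d : ℕ, 0 < d ∧ (χ : ↥PJ ⧸ V.subgroupOf PJ → ℂ) 1 = (d : ℂ) := fun χ =>
      CharCore.IsIrrCharacter.exists_degree χ.2
    choose d hd hd1 using hdeg
    simp only [Pi.smul_apply, smul_eq_mul, hm1, Nat.cast_one, one_mul] at h1
    have e : (θ : ↥PJ ⧸ V.subgroupOf PJ → ℂ) 1 = Steinberg.stChar (quotPair hker hJ hφ) 1 := rfl
    have h1' : ∑ χ ∈ Finset.univ.erase θ, ((m χ * d χ : ℕ) : ℂ) = 0 := by
      push_cast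
      simp only [← hd1]
      linear_combination - h1 - e
    have h2 : ∑ χ ∈ Finset.univ.erase θ, m χ * d χ = 0 := by exact_mod_cast h1'
    rw [Finset.sum_eq_zero_iff] at h2
    rw [hm', Finset.sum_eq_single_of_mem θ (Finset.mem_univ θ), hm1, Nat.cast_one, one_smul]
    intro χ _ hne
    have h3 := h2 χ (Finset.mem_erase.2 ⟨hne, Finset.mem_univ χ⟩)
    rw [(Nat.mul_eq_zero.1 h3).resolve_right (hd χ).ne', Nat.cast_zero, zero_smul]
  -- the value at the chosen element
  have hsgn : Steinberg.stChar Q (φ ⟨s, hg⟩) = (-1 : ℂ) ^ J.card := by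
    rw [halt, Finset.sum_eq_single_of_mem J (Finset.mem_powerset_self J)]
    · have e : ((P.parabolic (↑J : Set G)).subgroupOf PJ).map φ = ⊤ := by
        exact (congrArg (Subgroup.map φ) (Subgroup.subgroupOf_self PJ)).trans
          (Subgroup.map_top_of_surjective φ hφ)
      rw [e, Cfsg.fixedPointCharacter]
      have hsub : Subsingleton ((↥PJ ⧸ V.subgroupOf PJ) ⧸ (⊤ : Subgroup (↥PJ ⧸ V.subgroupOf PJ))) :=
        QuotientGroup.subsingleton_quotient_top
      have hfix : MulAction.fixedBy ((↥PJ ⧸ V.subgroupOf PJ) ⧸ (⊤ : Subgroup (↥PJ ⧸ V.subgroupOf PJ)))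
          (φ ⟨s, hg⟩) = Set.univ := Set.eq_univ_of_forall fun x => Subsingleton.elim _ _
      rw [hfix, Nat.card_congr (Equiv.Set.univ _), Nat.card_unique, Nat.cast_one, mul_one]
    · intro K hK hne
      have hss : K ⊂ J := Finset.ssubset_iff_subset_ne.2 ⟨Finset.mem_powerset.1 hK, hne⟩
      have he : IsEmpty (MulAction.fixedBy ((↥PJ ⧸ V.subgroupOf PJ) ⧸
          ((P.parabolic (↑K : Set G)).subgroupOf PJ).map φ) (φ ⟨s, hg⟩)) := by
        refine ⟨fun y => ?_⟩
        obtain ⟨y, hy⟩ := y
        induction y using QuotientGroup.induction_on with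
        | H x =>
          obtain ⟨a, rfl⟩ := hφ x
          have h1 : (φ ⟨s, hg⟩ * φ a)⁻¹ * φ a ∈
              ((P.parabolic (↑K : Set G)).subgroupOf PJ).map φ := QuotientGroup.eq.1 hy
          rw [← map_mul, ← map_inv, ← map_mul] at h1
          obtain ⟨b, hb, e⟩ := h1
          have h2 := hker (b⁻¹ * ((⟨s, hg⟩ * a)⁻¹ * a)) (by rw [map_mul, map_inv, e, inv_mul_cancel])
          have h3 := mul_mem (show (b : G) ∈ P.parabolic (↑K : Set G) from hb)
            (B_le_parabolic P (↑K : Set G) h2)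
          refine hmin K hss (a : G)⁻¹ ?_
          have h4 := inv_mem h3
          simpa [mul_assoc] using h4
      rw [Cfsg.fixedPointCharacter, Nat.card_of_isEmpty, Nat.cast_zero, mul_zero]
  -- the regular elements of the coset
  obtain ⟨z, hz⟩ := stChar_int P s
  have hsV : s ∈ Subgroup.normalizer (V : Set G) := by
    refine Subgroup.mem_normalizer_iff.2 fun x => ⟨hVn s hg x, fun hx => ?_⟩
    simpa [mul_assoc] using hVn s⁻¹ (inv_mem hg) _ hx
  set R := Finset.univ.filter fun v : V => ¬ p ∣ orderOf (s * (v : G))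
  have hsumz : (z : ℂ) * (R.card : ℂ) = (Nat.card V : ℂ) * (-1) ^ J.card := by
    have h1 := hψ ⟨s, hg⟩
    rw [hψeq, hsgn] at h1
    rw [h1, mul_inv_cancel_left₀ hVne]
    refine Eq.trans ?_ (Finset.sum_filter_of_ne
      (p := fun v : V => ¬ p ∣ orderOf (s * (v : G))) fun v _ hne hd => hne (h.stChar_eq_zero hd))
    rw [Finset.sum_congr rfl (g := fun _ => (z : ℂ)), Finset.sum_const, nsmul_eq_mul, mul_comm]
    intro v hv
    obtain ⟨m, hm, e⟩ := exists_conj_of_regular hVp hs hsV v.2 (Finset.mem_filter.1 hv).2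
    show Steinberg.stChar P (s * (v : G)) = (z : ℂ)
    rw [← hz]
    conv_rhs => rw [← e]
    exact (Steinberg.stChar_isClassFunction P (s * (v : G)) m).symm
  -- enough regular elements
  set Z := (Subgroup.centralizer ({s} : Set G)).subgroupOf V
  have horb : Z.index ≤ R.card := by
    rw [Subgroup.index, ← Nat.card_coe_set_eq (↑R : Set V) |>.trans (Set.ncard_coe_finset R)]
    refine Nat.card_le_card_of_injective
      (fun q => (⟨⟨s⁻¹ * ((q.out : G) * s * (q.out : G)⁻¹), ?_⟩, ?_⟩ : (↑R : Set V))) ?_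
    · rw [show s⁻¹ * ((q.out : G) * s * (q.out : G)⁻¹) = (s⁻¹ * q.out * s) * (q.out : G)⁻¹ by group]
      exact mul_mem ((Subgroup.mem_normalizer_iff''.1 hsV _).1 q.out.2) (inv_mem q.out.2)
    · simp only [R, Finset.coe_filter, Finset.mem_univ, true_and, Set.mem_ofPred_eq,
        mul_inv_cancel_left]
      rw [show (q.out : G) * s * (q.out : G)⁻¹ = MulAut.conj (q.out : G) s from rfl,
        MulEquiv.orderOf_eq]
      exact hs
    · intro q q' e
      have e' : (q.out : G) * s * (q.out : G)⁻¹ = (q'.out : G) * s * (q'.out : G)⁻¹ :=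
        mul_left_cancel (congrArg (fun x : (↑R : Set V) => ((x : V) : G)) e)
      rw [← QuotientGroup.out_eq' q, ← QuotientGroup.out_eq' q']
      refine QuotientGroup.eq.2 ?_
      rw [Subgroup.mem_subgroupOf, Subgroup.mem_centralizer_singleton_iff, Subgroup.coe_mul,
        InvMemClass.coe_inv]
      calc (q.out : G)⁻¹ * q'.out * s = (q.out : G)⁻¹ * ((q'.out : G) * s * (q'.out : G)⁻¹) * q'.out := by
            group
        _ = (q.out : G)⁻¹ * ((q.out : G) * s * (q.out : G)⁻¹) * q'.out := by rw [e']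
        _ = s * ((q.out : G)⁻¹ * q'.out) := by group
  have hnat : z.natAbs * R.card = Nat.card V := by
    have h1 : z * (R.card : ℤ) = (Nat.card V : ℤ) * (-1) ^ J.card := by exact_mod_cast hsumz
    have h2 := congrArg Int.natAbs h1
    simpa [Int.natAbs_mul, Int.natAbs_pow] using h2
  set a := p ^ (Nat.card (Subgroup.centralizer ({s} : Set G))).factorization p with ha
  have hZa : Nat.card Z ≤ a := by
    have hZp : IsPGroup p Z := hVp.to_subgroup Z
    obtain ⟨j, hj⟩ := IsPGroup.iff_card.1 hZp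
    have hdvd : Nat.card Z ∣ Nat.card (Subgroup.centralizer ({s} : Set G)) :=
      Subgroup.card_comap_dvd_of_injective _ _ Subtype.coe_injective
    rw [hj] at hdvd ⊢
    exact Nat.le_of_dvd (pow_pos hp.out.pos _) ((Nat.pow_dvd_pow_iff_le_right hp.out.one_lt).2
      ((hp.out.pow_dvd_iff_le_factorization Nat.card_pos.ne').1 hdvd))
  have hle : z.natAbs ≤ a := by
    have h1 := Z.card_mul_index
    by_contra hlt
    push Not at hlt
    have h2 : Nat.card Z * Z.index < z.natAbs * R.card :=
      calc Nat.card Z * Z.index ≤ a * R.card := Nat.mul_le_mul hZa horb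
        _ < z.natAbs * R.card := Nat.mul_lt_mul_of_pos_right hlt
            (Nat.lt_of_lt_of_le (Nat.pos_of_ne_zero Subgroup.index_ne_zero_of_finite) horb)
    omega
  have hz0 : z.natAbs ≠ 0 := fun e => by
    rw [e, zero_mul] at hnat
    exact Nat.card_pos.ne' hnat.symm
  have hdvd : a ∣ z.natAbs := Int.natCast_dvd.1 (ppart_dvd_value h hz)
  have heq : z.natAbs = a :=
    le_antisymm hle (Nat.le_of_dvd (Nat.pos_of_ne_zero hz0) hdvd)
  rw [hz]
  rcases Int.natAbs_eq z with hcase | hcase
  · left; rw [hcase, heq]; push_cast; rfl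
  · right; rw [hcase, heq]; push_cast; rfl

end Cfsg.Agent.SteinbergCount82
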