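import Cfsg.Agent.Lib.Steinberg.Alternating

/-!
Counting the farthest chambers of the residues inside a parabolic subgroup.
-/

set_option autoImplicit false
set_option linter.unusedSectionVars false

namespace Cfsg.Agent.SteinbergCount82

open Cfsg.Agent.BN
open Cfsg.Agent.Steinberg (sch mk_mem_sch cardC rep rep_mem rep_eqv mem_cell_rep len_mul_S
  len_mul_S_cases mul_mem_cell_right_of_len exists_word_of_mem_parabolic)

variable {G : Type*} [Group G] (P : Cfsg.BNPair G)

theorem exists_word_reduced {K : Set G} (hK : K ⊆ P.S) {a : G} (ha : a ∈ P.N)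
    (haK : a ∈ P.parabolic K) : ∃ L, (∀ x ∈ L, x ∈ K) ∧ Reduced P L ∧ Eqv P L.prod a := by
  obtain ⟨A, hA, haA⟩ := exists_word_of_mem_parabolic P hK haK
  have hAw : IsWord P A := fun x hx => hK (hA x hx)
  have he := eqv_of_cell_eq P ha (hAw.mem_N P) (cell_eq_of_mem P haA)
  obtain ⟨L, hL, hLr, hLe⟩ := exists_reduced_sublist P hAw
  exact ⟨L, fun x hx => hA x (hL.subset hx), hLr, eqv_trans P hLe (eqv_symm P he)⟩

theorem word_mem_parabolic {K : Set G} {L : List G} (hL : ∀ x ∈ L, x ∈ K) :
    L.prod ∈ P.parabolic K :=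
  list_prod_mem fun x hx => mem_parabolic_of_mem P (hL x hx)

theorem rep_mem_parabolic {J : Set G} {g : G} (hg : g ∈ P.parabolic J) :
    rep P g ∈ P.parabolic J := by
  obtain ⟨b, hb, b', hb', e⟩ := (mem_cell P).1 (mem_cell_rep P g)
  have e2 : rep P g = b⁻¹ * g * b'⁻¹ := by
    have := congrArg (fun x => b⁻¹ * x * b'⁻¹) e
    simpa [mul_assoc] using this.symm
  rw [e2]
  exact mul_mem (mul_mem (inv_mem (B_le_parabolic P J hb)) hg) (inv_mem (B_le_parabolic P J hb'))

/-- All elements of `K` are right descents. -/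
def RFull (K : Set G) (n : G) : Prop := ∀ s ∈ K, len P (n * s) < len P n

theorem rfull_congr {K : Set G} (hK : K ⊆ P.S) {n n' : G} (hn : n ∈ P.N) (hn' : n' ∈ P.N)
    (h : Eqv P n n') : RFull P K n ↔ RFull P K n' := by
  refine forall₂_congr fun s hs => ?_
  rw [len_congr P h, len_congr P (eqv_mul_right P h hn hn' (S_mem_N P (hK hs)))]

theorem exists_prefix_on {K : Set G} {v : G} (hv : v ∈ P.N)
    (hfull : ∀ s ∈ K, len P (s * v) < len P v) : ∀ u : List G, (∀ x ∈ u, x ∈ K) → Reduced P u →
    ∃ Y : List G, Reduced P (u ++ Y) ∧ Eqv P (u ++ Y).prod v := by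
  intro u
  induction u with
  | nil => intro _ _; exact exists_reduced P hv
  | cons s u ih =>
    intro huK hu
    have hs := hu.1 s List.mem_cons_self
    have hu' : Reduced P u := reduced_of_append P (L := [s]) hu
    obtain ⟨Y, hY, hYe⟩ := ih (fun x hx => huK x (List.mem_cons_of_mem _ hx)) hu'
    have hlenv : len P v = (u ++ Y).length := by rw [← len_congr P hYe, hY.2]
    have hlt : len P (s * (u ++ Y).prod) < (u ++ Y).length := by
      rw [len_congr P (eqv_mul_left P s hYe), ← hlenv]
      exact hfull s (huK s List.mem_cons_self)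
    obtain ⟨i, hi, he⟩ := exchange P hs hY hlt
    obtain ⟨huw, hYw⟩ := (isWord_append P).1 hY.1
    have hsN := S_mem_N P hs
    rcases lt_or_ge i u.length with hiu | hiu
    · exfalso
      rw [List.eraseIdx_append_of_lt_length hiu, List.prod_append, List.prod_append,
        ← mul_assoc] at he
      have hw := huw.sublist P (u.eraseIdx_sublist i)
      have h2 := eqv_mul_right P he (P.N.mul_mem (P.N.mul_mem hsN (huw.mem_N P)) (hYw.mem_N P))
        (P.N.mul_mem (hw.mem_N P) (hYw.mem_N P)) (P.N.inv_mem (hYw.mem_N P))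
      rw [mul_inv_cancel_right, mul_inv_cancel_right] at h2
      have h3 := len_le P hw (eqv_symm P h2)
      rw [List.length_eraseIdx_of_lt hiu] at h3
      have h4 := hu.2
      simp only [List.prod_cons, List.length_cons] at h4
      omega
    · rw [List.eraseIdx_append_of_length_le hiu] at he
      have hYw' := hYw.sublist P (Y.eraseIdx_sublist (i - u.length))
      have hee : Eqv P (s :: u ++ Y.eraseIdx (i - u.length)).prod v := by
        rw [List.cons_append, List.prod_cons]
        exact eqv_trans P (eqv_mul_left P s (eqv_symm P he))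
          (eqv_trans P (eqv_S_mul_S_mul P hs (hY.1.mem_N P)) hYe)
      have hiY : i - u.length < Y.length := by rw [List.length_append] at hi; omega
      refine ⟨Y.eraseIdx (i - u.length), ⟨(isWord_append P).2 ⟨hu.1, hYw'⟩, ?_⟩, hee⟩
      rw [len_congr P hee, hlenv]
      simp only [List.length_append, List.length_cons, List.length_eraseIdx_of_lt hiY]
      omega

/-- Uniqueness of the longest element of a parabolic subgroup. -/
theorem eqv_of_rfull {K : Set G} (hK : K ⊆ P.S) {a c : G} (ha : a ∈ P.N) (haK : a ∈ P.parabolic K)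
    (hc : c ∈ P.N) (hcK : c ∈ P.parabolic K) (hfa : RFull P K a) (hfc : RFull P K c) :
    Eqv P a c := by
  have hL : ∀ {x : G}, x ∈ P.N → RFull P K x → ∀ s ∈ K, len P (s * x⁻¹) < len P x⁻¹ := by
    intro x hx h s hs
    rw [← len_mul_S P (hK hs) hx, len_inv P hx]
    exact h s hs
  obtain ⟨A, hA, hAr, hAe⟩ := exists_word_reduced P hK (inv_mem ha) (inv_mem haK)
  obtain ⟨C, hC, hCr, hCe⟩ := exists_word_reduced P hK (inv_mem hc) (inv_mem hcK)
  obtain ⟨Y, hY, hYe⟩ := exists_prefix_on P (inv_mem hc) (hL hc hfc) A hA hAr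
  obtain ⟨Z, hZ, hZe⟩ := exists_prefix_on P (inv_mem ha) (hL ha hfa) C hC hCr
  have h1 : len P c⁻¹ = A.length + Y.length := by
    rw [← len_congr P hYe, hY.2, List.length_append]
  have h2 : len P a⁻¹ = C.length + Z.length := by
    rw [← len_congr P hZe, hZ.2, List.length_append]
  have h3 : A.length = len P a⁻¹ := by rw [← len_congr P hAe, hAr.2]
  have h4 : C.length = len P c⁻¹ := by rw [← len_congr P hCe, hCr.2]
  obtain rfl : Y = [] := List.eq_nil_of_length_eq_zero (by omega)
  rw [List.append_nil] at hYe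
  have := eqv_inv P (eqv_trans P (eqv_symm P hAe) hYe) (inv_mem ha) (inv_mem hc)
  rwa [inv_inv, inv_inv] at this

theorem exists_min {K : Set G} {n : G} (hn : n ∈ P.N) :
    ∃ v ∈ P.N, n⁻¹ * v ∈ P.parabolic K ∧
      ∀ b ∈ P.parabolic K, v * b ∈ P.N → len P v ≤ len P (v * b) := by
  classical
  have hex : ∃ k, ∃ v ∈ P.N, n⁻¹ * v ∈ P.parabolic K ∧ len P v = k :=
    ⟨_, n, hn, by rw [inv_mul_cancel]; exact one_mem _, rfl⟩
  obtain ⟨v, hv, hvn, hk⟩ := Nat.find_spec hex
  refine ⟨v, hv, hvn, fun b hb hvb => ?_⟩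
  rw [hk]
  exact Nat.find_min' hex ⟨v * b, hvb, by rw [← mul_assoc]; exact mul_mem hvn hb, rfl⟩

theorem len_add {K : Set G} (hK : K ⊆ P.S) {v a : G} (hv : v ∈ P.N)
    (hmin : ∀ b ∈ P.parabolic K, v * b ∈ P.N → len P v ≤ len P (v * b)) (ha : a ∈ P.N)
    (haK : a ∈ P.parabolic K) : len P (v * a) = len P v + len P a := by
  obtain ⟨V, hV, hVe⟩ := exists_reduced P hv
  obtain ⟨A, hA, hAr, hAe⟩ := exists_word_reduced P hK ha haK
  have hw : IsWord P (V ++ A) := (isWord_append P).2 ⟨hV.1, hAr.1⟩
  obtain ⟨R, hR, hRr, hRe⟩ := exists_reduced_sublist P hw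
  obtain ⟨V', A', rfl, hV', hA'⟩ := List.sublist_append_iff.1 hR
  have hVN := hV.1.mem_N P
  have hva : Eqv P (V ++ A).prod (v * a) := by
    rw [List.prod_append]
    exact eqv_trans P (eqv_mul_left P _ hAe) (eqv_mul_right P hVe hVN hv ha)
  have hRva : Eqv P (V'.prod * A'.prod) (v * a) := by
    rw [← List.prod_append]; exact eqv_trans P hRe hva
  have hV'N := (hV.1.sublist P hV').mem_N P
  have hA'K : A'.prod ∈ P.parabolic K := word_mem_parabolic P fun x hx => hA x (hA'.subset hx)
  have hb : v⁻¹ * V'.prod ∈ P.parabolic K := by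
    have h1 : (V'.prod * A'.prod)⁻¹ * (v * a) ∈ P.parabolic K := B_le_parabolic P K hRva
    have e : v⁻¹ * V'.prod = a * ((V'.prod * A'.prod)⁻¹ * (v * a))⁻¹ * A'.prod⁻¹ := by group
    rw [e]
    exact mul_mem (mul_mem haK (inv_mem h1)) (inv_mem hA'K)
  have h2 := hmin _ hb (by rw [mul_inv_cancel_left]; exact hV'N)
  rw [mul_inv_cancel_left] at h2
  have h3 := len_le P (hV.1.sublist P hV') (eqv_refl P _)
  have hVlen : V.length = len P v := by rw [← len_congr P hVe, hV.2]
  obtain rfl : V' = V := hV'.eq_of_length_le (by omega)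
  have h4 : Eqv P A'.prod a := by
    have := eqv_trans P hRva (eqv_symm P (eqv_mul_right P hVe hVN hv ha))
    simpa [Eqv, mul_assoc] using this
  have h5 := len_le P (hAr.1.sublist P hA') h4
  have hAlen : A.length = len P a := by rw [← len_congr P hAe, hAr.2]
  have h6 := hA'.length_le
  rw [← len_congr P hRva, ← List.prod_append, hRr.2, List.length_append]
  omega

theorem cell_mul_of_len_add {n : G} (hn : n ∈ P.N) : ∀ {m : G}, m ∈ P.N →
    len P (n * m) = len P n + len P m → ∀ {x y : G}, x ∈ cell P n → y ∈ cell P m →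
    x * y ∈ cell P (n * m) := by
  intro m
  induction hk : len P m using Nat.strong_induction_on generalizing m with
  | _ k ih =>
    intro hm hl x y hx hy
    by_cases h0 : len P m = 0
    · have hB := (len_eq_zero P hm).1 h0
      rw [← cell_congr P (g := n) (h := n * m) (by simpa using hB)]
      have hy1 : y ∈ P.B := by
        obtain ⟨b, hb, b', hb', rfl⟩ := (mem_cell P).1 hy
        exact mul_mem (mul_mem hb hB) hb'
      exact mul_mem_cell_right P hy1 hx
    obtain ⟨s, hs, m', hm', hlm, he⟩ := exists_last P hm (Nat.pos_of_ne_zero h0)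
    have hnm := P.N.mul_mem hn hm'
    have hnms : len P (n * m' * s) = len P (n * m) := by
      rw [mul_assoc]; exact len_congr P (eqv_mul_left P n he)
    have h1 : len P (n * m') = len P n + len P m' := by
      have h2 := len_mul_S_le P hs hnm
      obtain ⟨L, hL, hLe⟩ := exists_reduced P hn
      obtain ⟨M, hM, hMe⟩ := exists_reduced P hm'
      have h3 := len_le P ((isWord_append P).2 ⟨hL.1, hM.1⟩) (n := n * m') (by
        rw [List.prod_append]
        exact eqv_trans P (eqv_mul_left P _ hMe) (eqv_mul_right P hLe (hL.1.mem_N P) hn hm'))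
      rw [List.length_append, ← hL.2, ← hM.2, len_congr P hLe, len_congr P hMe] at h3
      omega
    rw [← cell_congr P he] at hy
    obtain ⟨c, hc, d, hd, rfl⟩ := (mem_cell P).1 hy
    have h2 := ih (len P m') (by omega) rfl hm' (by omega) hx
      (mul_mem_cell_left P hc (self_mem_cell P m'))
    have h3 := mul_mem_cell_right_of_len P hs hnm (by omega) h2
      (mul_mem_cell_right P hd (self_mem_cell P s))
    rw [mul_assoc n m' s, cell_congr P (eqv_mul_left P n he)] at h3
    rwa [show x * (c * m') * (s * d) = x * (c * (m' * s) * d) by group] at h3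

theorem exists_last_in {K : Set G} (hK : K ⊆ P.S) {a : G} (ha : a ∈ P.N)
    (haK : a ∈ P.parabolic K) (h : 0 < len P a) : ∃ s ∈ K, len P (a * s) < len P a := by
  obtain ⟨L, hL, hLr, hLe⟩ := exists_word_reduced P hK ha haK
  rcases List.eq_nil_or_concat L with rfl | ⟨L', s, rfl⟩
  · rw [← len_congr P hLe, hLr.2] at h; simp at h
  · rw [List.concat_eq_append] at hL hLr hLe
    refine ⟨s, hL s (by simp), ?_⟩
    have hs := hK (hL s (by simp))
    have hw := hLr.1
    obtain ⟨hw', -⟩ := (isWord_append P).1 hw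
    have h1 : Eqv P L'.prod (a * s) := by
      refine eqv_trans P (eqv_symm P (eqv_mul_S_mul_S P (n := L'.prod) hs)) ?_
      refine eqv_mul_right P ?_ (P.N.mul_mem (hw'.mem_N P) (S_mem_N P hs)) ha (S_mem_N P hs)
      simpa using hLe
    have h2 := len_le P hw' h1
    rw [← len_congr P hLe, hLr.2]
    simp only [List.length_append, List.length_singleton]
    omega

/-- The chambers of the residue of `J` at the base chamber. -/
def res0 (J : Set G) : Set (G ⧸ P.B) := {y | y.out ∈ P.parabolic J}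

/-- Those of them which are farthest in their `K`-residue. -/
def far (J K : Set G) : Set (G ⧸ P.B) :=
  {y | y.out ∈ P.parabolic J ∧ RFull P K (rep P y.out)}

theorem mk_mem_res0 {J : Set G} {g : G} : (g : G ⧸ P.B).out ∈ P.parabolic J ↔ g ∈ P.parabolic J := by
  have h : ((g : G ⧸ P.B)).out⁻¹ * g ∈ P.parabolic J :=
    B_le_parabolic P J (QuotientGroup.eq.1 (QuotientGroup.out_eq' _))
  constructor
  · intro h1; simpa using mul_mem h1 h
  · intro h1; simpa using mul_mem h1 (inv_mem h)

theorem rfull_mk {K : Set G} (hK : K ⊆ P.S) {g n : G} (hn : n ∈ P.N) (hg : g ∈ cell P n) :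
    RFull P K (rep P ((g : G ⧸ P.B)).out) ↔ RFull P K n := by
  refine rfull_congr P hK (rep_mem P _) hn (rep_eqv P hn ?_)
  have h : g⁻¹ * ((g : G ⧸ P.B)).out ∈ P.B := QuotientGroup.eq.1 (QuotientGroup.out_eq' _).symm
  have := mul_mem_cell_right P h hg
  rwa [mul_inv_cancel_left] at this

theorem far_self {K : Set G} (hK : K ⊆ P.S) {w : G} (hw : w ∈ P.N) (hwK : w ∈ P.parabolic K)
    (hfull : RFull P K w) : far P K K = sch P w := by
  ext y
  induction y using QuotientGroup.induction_on with
  | H g =>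
    rw [far, Set.mem_ofPred_eq, mk_mem_res0, rfull_mk P hK (rep_mem P g) (mem_cell_rep P g),
      mk_mem_sch]
    constructor
    · rintro ⟨h1, h2⟩
      rw [← cell_congr P (eqv_of_rfull P hK (rep_mem P g) (rep_mem_parabolic P h1) hw hwK h2 hfull)]
      exact mem_cell_rep P g
    · intro h
      obtain ⟨b, hb, b', hb', rfl⟩ := (mem_cell P).1 h
      refine ⟨mul_mem (mul_mem (B_le_parabolic P K hb) hwK) (B_le_parabolic P K hb'), ?_⟩
      exact (rfull_congr P hK (rep_mem P _) hw (rep_eqv P hw h)).2 hfull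

variable [Finite G]

theorem card_far {J K : Set G} (hJ : J ⊆ P.S) (hKJ : K ⊆ J) :
    Nat.card (far P J K) =
      (P.parabolic K).relIndex (P.parabolic J) * Nat.card (far P K K) := by
  have hK : K ⊆ P.S := hKJ.trans hJ
  have hle := parabolic_mono P hKJ
  set M := (P.parabolic K).subgroupOf (P.parabolic J) with hM
  -- a good representative of each coset
  have hgood : ∀ c : ↥(P.parabolic J) ⧸ M, ∃ g : ↥(P.parabolic J),
      (g : ↥(P.parabolic J) ⧸ M) = c ∧ ∃ v ∈ P.N, ∃ b ∈ P.B, (g : G) = b * v ∧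
        ∀ d ∈ P.parabolic K, v * d ∈ P.N → len P v ≤ len P (v * d) := by
    intro c
    induction c using QuotientGroup.induction_on with
    | H x =>
      obtain ⟨b, hb, b', hb', e⟩ := (mem_cell P).1 (mem_cell_rep P (x : G))
      obtain ⟨v, hv, hvn, hmin⟩ := exists_min P (K := K) (rep_mem P (x : G))
      have hvJ : v ∈ P.parabolic J := by
        have := mul_mem (rep_mem_parabolic P x.2) (hle hvn)
        rwa [mul_inv_cancel_left] at this
      refine ⟨⟨b * v, mul_mem (B_le_parabolic P J hb) hvJ⟩, ?_, v, hv, b, hb, rfl, hmin⟩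
      refine (QuotientGroup.eq.2 ?_).symm
      rw [hM, Subgroup.mem_subgroupOf]
      show (x : G)⁻¹ * (b * v) ∈ P.parabolic K
      rw [e, show (b * rep P (x : G) * b')⁻¹ * (b * v) = b'⁻¹ * ((rep P (x : G))⁻¹ * v) by group]
      exact mul_mem (inv_mem (B_le_parabolic P K hb')) hvn
  choose g hgc v hv b hb hge hmin using hgood
  have hkey : ∀ (c : ↥(P.parabolic J) ⧸ M) (a : G), a ∈ P.parabolic K →
      (RFull P K (rep P (((g c : G) * a : G) : G ⧸ P.B).out) ↔
        RFull P K (rep P ((a : G) : G ⧸ P.B).out)) := by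
    intro c a ha
    have hn := rep_mem P a
    have hnK := rep_mem_parabolic P ha
    have hl := len_add P hK (hv c) (hmin c) hn hnK
    have h1 : (g c : G) * a ∈ cell P (v c * rep P a) := by
      rw [hge c, mul_assoc]
      exact mul_mem_cell_left P (hb c)
        (cell_mul_of_len_add P (hv c) hn hl (self_mem_cell P _) (mem_cell_rep P a))
    rw [rfull_mk P hK (P.N.mul_mem (hv c) hn) h1, rfull_mk P hK hn (mem_cell_rep P a)]
    refine forall₂_congr fun s hs => ?_
    have h2 := len_add P hK (hv c) (hmin c) (P.N.mul_mem hn (S_mem_N P (hK hs)))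
      (mul_mem hnK (mem_parabolic_of_mem P hs))
    rw [← mul_assoc] at h2
    rw [h2, hl]
    omega
  let f : (↥(P.parabolic J) ⧸ M) × far P K K → far P J K := fun p =>
    ⟨((g p.1 : G) * (p.2 : G ⧸ P.B).out : G), by
      refine ⟨(mk_mem_res0 P).2 (mul_mem (g p.1).2 (hle p.2.2.1)), ?_⟩
      rw [hkey _ _ p.2.2.1, QuotientGroup.out_eq']
      exact p.2.2.2⟩
  rw [Subgroup.relIndex, Subgroup.index, ← hM, ← Nat.card_prod]
  refine (Nat.card_congr (Equiv.ofBijective f ⟨?_, ?_⟩)).symm
  · rintro ⟨c, z, hz⟩ ⟨c', z', hz'⟩ h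
    have h1 : ((g c : G) * z.out)⁻¹ * ((g c' : G) * z'.out) ∈ P.B :=
      QuotientGroup.eq.1 (congrArg Subtype.val h)
    obtain rfl : c = c' := by
      rw [← hgc c, ← hgc c']
      refine QuotientGroup.eq.2 ?_
      rw [hM, Subgroup.mem_subgroupOf]
      show (g c : G)⁻¹ * (g c' : G) ∈ P.parabolic K
      have e : (g c : G)⁻¹ * (g c' : G) =
          z.out * (((g c : G) * z.out)⁻¹ * ((g c' : G) * z'.out)) * z'.out⁻¹ := by group
      rw [e]
      exact mul_mem (mul_mem hz.1 (B_le_parabolic P K h1)) (inv_mem hz'.1)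
    rw [show ((g c : G) * z.out)⁻¹ * ((g c : G) * z'.out) = z.out⁻¹ * z'.out by group] at h1
    have := QuotientGroup.eq.2 h1
    rw [QuotientGroup.out_eq', QuotientGroup.out_eq'] at this
    subst this
    rfl
  · rintro ⟨y, hy1, hy2⟩
    set c : ↥(P.parabolic J) ⧸ M := ((⟨y.out, hy1⟩ : ↥(P.parabolic J)) : ↥(P.parabolic J) ⧸ M)
    have ha : (g c : G)⁻¹ * y.out ∈ P.parabolic K :=
      Subgroup.mem_subgroupOf.1 (QuotientGroup.eq.1 (hgc c))
    have hfar : (((g c : G)⁻¹ * y.out : G) : G ⧸ P.B) ∈ far P K K := by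
      refine ⟨(mk_mem_res0 P).2 ha, ?_⟩
      rw [← hkey c _ ha, mul_inv_cancel_left, QuotientGroup.out_eq']
      exact hy2
    refine ⟨(c, ⟨_, hfar⟩), Subtype.ext ?_⟩
    show (((g c : G) * ((((g c : G)⁻¹ * y.out : G)) : G ⧸ P.B).out : G) : G ⧸ P.B) = y
    conv_rhs => rw [← QuotientGroup.out_eq' y]
    refine QuotientGroup.eq.2 ?_
    rw [mul_inv_rev, mul_assoc]
    exact QuotientGroup.eq.1 (QuotientGroup.out_eq' (((g c : G)⁻¹ * y.out : G) : G ⧸ P.B))

/-- The alternating count. -/
theorem sum_neg_one_pow_relIndex {J : Finset G} (hJ : (↑J : Set G) ⊆ P.S) (c : Finset G → ℕ)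
    (hc : ∀ K ⊆ J, Nat.card (far P (↑K : Set G) ↑K) = c K) :
    ∑ K ∈ J.powerset, (-1 : ℂ) ^ K.card *
      (((P.parabolic (↑K : Set G)).relIndex (P.parabolic (↑J : Set G)) * c K : ℕ) : ℂ) = 1 := by
  classical
  let _ : Fintype (G ⧸ P.B) := Fintype.ofFinite _
  let _ : Fintype G := Fintype.ofFinite _
  have e : ∀ K ∈ J.powerset, (-1 : ℂ) ^ K.card *
      (((P.parabolic (↑K : Set G)).relIndex (P.parabolic (↑J : Set G)) * c K : ℕ) : ℂ) =
      ∑ y : G ⧸ P.B, if y.out ∈ P.parabolic (↑J : Set G) then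
        (if ∀ s ∈ K, len P (rep P y.out * s) < len P (rep P y.out)
          then (-1 : ℂ) ^ K.card else 0) else 0 := by
    intro K hK
    have hKJ := Finset.mem_powerset.1 hK
    rw [← hc K hKJ, ← card_far P hJ (Finset.coe_subset.2 hKJ), Nat.card_coe_set_eq,
      ← Finset.sum_filter, ← Finset.sum_filter, Finset.filter_filter,
      Finset.sum_const, nsmul_eq_mul, mul_comm]
    congr 2
    rw [← Set.ncard_coe_finset]
    congr 1
    ext y
    simp [far, RFull]
  rw [Finset.sum_congr rfl e, Finset.sum_comm]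
  have e2 : ∀ y : G ⧸ P.B, (∑ K ∈ J.powerset, if y.out ∈ P.parabolic (↑J : Set G) then
      (if ∀ s ∈ K, len P (rep P y.out * s) < len P (rep P y.out)
        then (-1 : ℂ) ^ K.card else 0) else 0) =
      if y = ((1 : G) : G ⧸ P.B) then 1 else 0 := by
    intro y
    by_cases hy : y.out ∈ P.parabolic (↑J : Set G)
    · simp only [if_pos hy]
      refine Eq.trans (by congr!) ((Steinberg.sum_neg_one_pow_subsets J
        (fun s => len P (rep P y.out * s) < len P (rep P y.out))).trans ?_)
      refine ite_congr (propext ?_) (fun _ => rfl) (fun _ => rfl)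
      constructor
      · intro h
        have h0 : len P (rep P y.out) = 0 := by
          by_contra h0
          obtain ⟨s, hs, hl⟩ := exists_last_in P hJ (rep_mem P _) (rep_mem_parabolic P hy)
            (Nat.pos_of_ne_zero h0)
          exact h s hs hl
        have hB := (len_eq_zero P (rep_mem P _)).1 h0
        obtain ⟨b, hb, b', hb', e⟩ := (mem_cell P).1 (mem_cell_rep P y.out)
        rw [← QuotientGroup.out_eq' y]
        refine QuotientGroup.eq.2 ?_
        rw [mul_one, e]
        exact inv_mem (mul_mem (mul_mem hb hB) hb')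
      · rintro rfl s hs
        have h1 : ((1 : G) : G ⧸ P.B).out ∈ cell P 1 := by
          rw [cell_one]
          simpa using inv_mem (QuotientGroup.eq.1 (QuotientGroup.out_eq' ((1 : G) : G ⧸ P.B)))
        rw [len_congr P (rep_eqv P (one_mem _) h1), len_one]
        omega
    · simp only [if_neg hy, Finset.sum_const_zero]
      rw [if_neg]
      rintro rfl
      exact hy ((mk_mem_res0 P).2 (one_mem _))
  rw [Finset.sum_congr rfl fun y _ => e2 y, Finset.sum_ite_eq' Finset.univ, if_pos (Finset.mem_univ _)]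

end Cfsg.Agent.SteinbergCount82
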