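import Cfsg.Agent.SteinbergCount82.Quot
import Cfsg.Agent.Lib.Steinberg.Split

/-!
Steinberg's count of the elements of `p`-power order.
-/

set_option autoImplicit false
set_option linter.unusedSectionVars false

namespace Cfsg.Agent.SteinbergCount82

open Cfsg.Agent.BN
open Cfsg.Agent.Steinberg (Split sch mk_mem_sch cardC)
open scoped Classical

/-- The number of elements of `p`-power order. -/
noncomputable def cnt (p : ℕ) (A : Type*) [Group A] : ℕ := Nat.card {a : A // ∃ k : ℕ, orderOf a = p ^ k}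

theorem isPEl_iff {p : ℕ} [Fact p.Prime] {A : Type*} [Group A] {a : A} :
    (∃ k : ℕ, orderOf a = p ^ k) ↔ ∃ k : ℕ, a ^ p ^ k = 1 := by
  refine ⟨fun ⟨k, hk⟩ => ⟨k, hk ▸ pow_orderOf_eq_one a⟩, fun ⟨k, hk⟩ => ?_⟩
  obtain ⟨j, -, hj⟩ := (Nat.dvd_prime_pow Fact.out).1 (orderOf_dvd_of_pow_eq_one hk)
  exact ⟨j, hj⟩

/-- Lifting through a kernel of `p`-power order. -/
theorem cnt_of_surjective {p : ℕ} [Fact p.Prime] {A C : Type*} [Group A] [Group C] (f : A →* C)
    (hf : Function.Surjective f) (hk : IsPGroup p f.ker) :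
    cnt p A = Nat.card f.ker * cnt p C := by
  have hiff : ∀ a : A, (∃ k : ℕ, orderOf a = p ^ k) ↔ ∃ k : ℕ, orderOf (f a) = p ^ k := by
    intro a
    rw [isPEl_iff, isPEl_iff]
    refine ⟨fun ⟨k, hk⟩ => ⟨k, by rw [← map_pow, hk, map_one]⟩, fun ⟨k, hk'⟩ => ?_⟩
    obtain ⟨j, hj⟩ := hk ⟨a ^ p ^ k, by rw [MonoidHom.mem_ker, map_pow, hk']⟩
    refine ⟨k + j, ?_⟩
    rw [pow_add, pow_mul]
    exact congrArg Subtype.val hj
  obtain ⟨g, hg⟩ := hf.hasRightInverse
  rw [cnt, cnt, ← Nat.card_prod]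
  refine Nat.card_congr
    { toFun := fun a => (⟨(g (f a.1))⁻¹ * a.1, by
        rw [MonoidHom.mem_ker, map_mul, map_inv, hg, inv_mul_cancel]⟩, ⟨f a.1, (hiff _).1 a.2⟩)
      invFun := fun x => ⟨g x.2.1 * x.1.1, (hiff _).2 (by
        rw [map_mul, hg, MonoidHom.mem_ker.1 x.1.2, mul_one]; exact x.2.2)⟩
      left_inv := fun a => Subtype.ext (mul_inv_cancel_left _ _)
      right_inv := fun x => by
        have e : f (g x.2.1 * x.1.1) = x.2.1 := by
          rw [map_mul, hg, MonoidHom.mem_ker.1 x.1.2, mul_one]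
        refine Prod.ext (Subtype.ext ?_) (Subtype.ext e)
        show (g (f (g x.2.1 * x.1.1)))⁻¹ * (g x.2.1 * x.1.1) = x.1.1
        rw [e, inv_mul_cancel_left] }

theorem cnt_congr {p : ℕ} {A C : Type*} [Group A] [Group C] (e : A ≃* C) : cnt p A = cnt p C :=
  Nat.card_congr (e.toEquiv.subtypeEquiv fun a => by
    rw [MulEquiv.toEquiv_eq_coe, EquivLike.coe_coe, MulEquiv.orderOf_eq e a])

/-- The indicator of the elements of `p`-power order. -/
noncomputable def pInd (p : ℕ) {A : Type*} [Group A] (a : A) : ℂ :=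
  if ∃ k : ℕ, orderOf a = p ^ k then 1 else 0

theorem sum_pInd {p : ℕ} {A : Type*} [Group A] [Fintype A] :
    ∑ a : A, pInd p a = (cnt p A : ℂ) := by
  simp only [pInd, Finset.sum_boole, cnt, Nat.card_eq_fintype_card, Fintype.card_subtype]

variable {X : Type*} [Group X] [Fintype X] (Q : Cfsg.BNPair X) {p : ℕ} [hp : Fact p.Prime]

/-- The alternating sum over the parabolic subgroups. -/
theorem sum_altSum_pInd :
    ∑ K ∈ (Set.toFinite Q.S).toFinset.powerset, (-1 : ℂ) ^ K.card *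
      (((Q.parabolic (↑K : Set X)).index * cnt p ↥(Q.parabolic (↑K : Set X)) : ℕ) : ℂ) =
      ∑ x : X, pInd p x * Steinberg.stChar Q x := by
  rw [← Steinberg.altSum_eq_stChar]
  simp only [Steinberg.altSum, Finset.mul_sum]
  rw [Finset.sum_comm]
  refine Finset.sum_congr rfl fun K _ => ?_
  have h := Steinberg.sum_classFunction_perm (Q.parabolic (↑K : Set X)) (f := pInd p)
    (fun g h => by
      have e : orderOf (h * g * h⁻¹) = orderOf g :=
        MulEquiv.orderOf_eq (MulAut.conj h) g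
      simp only [pInd, e])
  simp only [mul_left_comm (pInd p _)]
  rw [← Finset.mul_sum, h]
  congr 1
  rw [Nat.cast_mul, ← sum_pInd]
  congr 1
  refine Eq.symm ?_
  refine Finset.sum_congr rfl fun a _ => ?_
  simp only [pInd, Subgroup.orderOf_coe]

theorem sum_pInd_stChar {U : Subgroup X} (h : Split Q p U) :
    ∑ x : X, pInd p x * Steinberg.stChar Q x = (Nat.card U : ℂ) := by
  rw [Finset.sum_eq_single 1]
  · rw [h.stChar_one, pInd, if_pos ⟨0, by simp⟩, one_mul]
  · intro x _ hx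
    by_cases hk : ∃ k : ℕ, orderOf x = p ^ k
    · obtain ⟨k, hk⟩ := hk
      have hk0 : k ≠ 0 := fun e => hx (by rw [← orderOf_eq_one_iff, hk, e, pow_zero])
      rw [h.stChar_eq_zero (hk ▸ dvd_pow_self p hk0), mul_zero]
    · rw [pInd, if_neg hk, zero_mul]
  · simp

section count

variable {G : Type*} [Group G] [Fintype G] {P : Cfsg.BNPair G} {U : Subgroup G}

/-- The data for each standard parabolic subgroup. -/
def HasLevi (P : Cfsg.BNPair G) (U : Subgroup G) : Prop :=
  ∀ J : Set G, J ⊆ P.S → ∃ V : Subgroup G, V ≤ U ∧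
    (∀ x ∈ P.parabolic J, ∀ v ∈ V, x * v * x⁻¹ ∈ V) ∧
    ∃ n ∈ P.N, n ∈ P.parabolic J ∧
      ∀ u ∈ U, u • (n : G ⧸ P.B) = (n : G ⧸ P.B) → u ∈ V

variable (h : Split P p U) (hL : HasLevi P U)

include h in
theorem levi_card {J : Set G} (hJ : J ⊆ P.S) {V : Subgroup G} (hVU : V ≤ U)
    (hV : ∀ x ∈ P.parabolic J, ∀ v ∈ V, x * v * x⁻¹ ∈ V) {n : G} (hn : n ∈ P.N)
    (hnJ : n ∈ P.parabolic J) (hstab : ∀ u ∈ U, u • (n : G ⧸ P.B) = (n : G ⧸ P.B) → u ∈ V) :
    cardC P n * Nat.card V = Nat.card U ∧ RFull P J n := by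
  have hfix : ∀ {m : G}, m ∈ P.parabolic J → ∀ v ∈ V, v • (m : G ⧸ P.B) = (m : G ⧸ P.B) := by
    intro m hm v hv
    refine QuotientGroup.eq.2 ?_
    have := h.le (hVU (hV m⁻¹ (inv_mem hm) v⁻¹ (inv_mem hv)))
    show (v * m)⁻¹ * m ∈ P.B
    simpa [mul_assoc] using this
  have horb : ∀ {m : G}, m ∈ P.N →
      cardC P m * Nat.card (MulAction.stabilizer U (m : G ⧸ P.B)) = Nat.card U := by
    intro m hm
    rw [cardC, h.sch_eq_orbit hm, Nat.card_coe_set_eq, ← MulAction.index_stabilizer]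
    exact Subgroup.index_mul_card _
  have hst : Nat.card (MulAction.stabilizer U (n : G ⧸ P.B)) = Nat.card V := by
    refine Nat.card_congr
      { toFun := fun u => ⟨(u.1 : G), hstab _ u.1.2 u.2⟩
        invFun := fun v => ⟨⟨v.1, hVU v.2⟩, hfix hnJ v.1 v.2⟩
        left_inv := fun u => rfl
        right_inv := fun v => rfl }
  have h1 := horb hn
  rw [hst] at h1
  refine ⟨h1, fun s hs => ?_⟩
  rcases Steinberg.len_mul_S_cases P (hJ hs) hn with hl | hl
  · exfalso
    have hsN := S_mem_N P (hJ hs)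
    have h2 := horb (P.N.mul_mem hn hsN)
    have h3 : Nat.card V ≤ Nat.card (MulAction.stabilizer U ((n * s : G) : G ⧸ P.B)) :=
      Nat.card_le_card_of_injective
        (fun v : V => (⟨⟨v.1, hVU v.2⟩, hfix (mul_mem hnJ (mem_parabolic_of_mem P hs)) v.1 v.2⟩ :
          MulAction.stabilizer U ((n * s : G) : G ⧸ P.B)))
        (fun a b e => Subtype.ext (congrArg (fun z => ((z.1 : U) : G)) e))
    rw [Steinberg.cardC_mul_S P (hJ hs) hn (by omega)] at h2
    have h4 := h.one_lt_cardC_S (hJ hs)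
    have h5 := Steinberg.cardC_pos P n
    have h6 : cardC P n * 2 ≤ cardC P n * cardC P s := Nat.mul_le_mul_left _ h4
    have h7 : cardC P n * 2 * Nat.card V ≤ Nat.card U := by
      rw [← h2]; exact Nat.mul_le_mul h6 h3
    have h8 : 0 < cardC P n * Nat.card V := Nat.mul_pos h5 Nat.card_pos
    rw [← h1] at h7
    have : cardC P n * 2 * Nat.card V = 2 * (cardC P n * Nat.card V) := by ring
    omega
  · omega

include h in
/-- The quotient pair of a parabolic subgroup is split. -/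
theorem levi_split {J : Set G} (hJ : J ⊆ P.S) {V : Subgroup G} (hVU : V ≤ U) {X : Type*} [Group X]
    [Fintype X] {φ : ↥(P.parabolic J) →* X} (hφ : Function.Surjective φ)
    (hmem : ∀ x : ↥(P.parabolic J), φ x = 1 ↔ (x : G) ∈ V) {n : G} (hn : n ∈ P.N)
    (hnJ : n ∈ P.parabolic J) (hstab : ∀ u ∈ U, u • (n : G ⧸ P.B) = (n : G ⧸ P.B) → u ∈ V) :
    Split (quotPair (fun x hx => h.le (hVU ((hmem x).1 hx))) hJ hφ) p
      ((U.subgroupOf (P.parabolic J)).map φ) := by
  have hker : ∀ x : ↥(P.parabolic J), φ x = 1 → (x : G) ∈ P.B :=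
    fun x hx => h.le (hVU ((hmem x).1 hx))
  have hUJ : U ≤ P.parabolic J := h.le.trans (B_le_parabolic P _)
  set Q := quotPair hker hJ hφ with hQ
  refine ⟨Subgroup.map_mono fun x hx => h.le hx, ?_, ?_, ?_, ?_, ?_⟩
  · rintro _ ⟨b, hb, rfl⟩ _ ⟨u, hu, rfl⟩
    rw [← map_inv, ← map_mul, ← map_mul]
    exact Subgroup.mem_map_of_mem φ (Subgroup.mem_subgroupOf.2 (h.conj b hb u hu))
  · exact IsPGroup.map (h.pgroup.of_equiv (Subgroup.subgroupOfEquivOfLe hUJ).symm) φ
  · rintro _ ⟨b, hb, rfl⟩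
    obtain ⟨u, hu, t, ht, e⟩ := h.decomp b hb
    refine ⟨φ ⟨u, hUJ hu⟩, Subgroup.mem_map_of_mem φ (Subgroup.mem_subgroupOf.2 hu),
      φ ⟨t, B_le_parabolic P _ ht.1⟩,
      ⟨Subgroup.mem_map_of_mem φ (Subgroup.mem_subgroupOf.2 ht.1),
        Subgroup.mem_map_of_mem φ (Subgroup.mem_subgroupOf.2 ht.2)⟩, ?_⟩
    rw [← map_mul]
    exact congrArg φ (Subtype.ext e)
  · have e : Q.B ⊓ Q.N = ((P.B ⊓ P.N).subgroupOf (P.parabolic J)).map φ := by
      refine le_antisymm ?_ ?_
      · rintro _ ⟨htB, z, hz, rfl⟩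
        exact Subgroup.mem_map_of_mem φ
          (Subgroup.mem_subgroupOf.2 ⟨(mem_map_B hker).1 htB, hz⟩)
      · exact le_inf (Subgroup.map_mono fun x hx => hx.1) (Subgroup.map_mono fun x hx => hx.2)
    rw [e]
    intro hd
    refine h.torus (hd.trans ?_)
    rw [← Nat.card_congr (Subgroup.subgroupOfEquivOfLe
      (inf_le_left.trans (B_le_parabolic P J))).toEquiv]
    exact Subgroup.card_map_dvd _ φ
  · refine ⟨φ ⟨n, hnJ⟩, Subgroup.mem_map_of_mem φ (Subgroup.mem_subgroupOf.2 hn), ?_⟩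
    refine Nat.card_le_card_of_injective (fun y : ↥((U.subgroupOf (P.parabolic J)).map φ) =>
      (⟨((y.1 * φ ⟨n, hnJ⟩ : X) : X ⧸ Q.B), ?_⟩ :
        sch Q (φ ⟨n, hnJ⟩))) ?_
    · refine (mk_mem_sch Q).2 (mul_mem_cell_left Q ?_ (self_mem_cell Q _))
      obtain ⟨u, hu, e⟩ := y.2
      rw [← e]
      exact Subgroup.mem_map_of_mem φ (Subgroup.mem_subgroupOf.2 (h.le hu))
    · rintro ⟨_, u, hu, rfl⟩ ⟨_, u', hu', rfl⟩ e
      have e' := QuotientGroup.eq.1 (congrArg Subtype.val e)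
      simp only [← map_mul, ← map_inv] at e'
      have h1 : ((u : G) * n)⁻¹ * ((u' : G) * n) ∈ P.B := (mem_map_B hker).1 e'
      have h2 : ((u' : G)⁻¹ * (u : G)) ∈ V := by
        refine hstab _ (mul_mem (inv_mem hu') hu) (QuotientGroup.eq.2 ?_)
        show ((u' : G)⁻¹ * (u : G) * n)⁻¹ * n ∈ P.B
        rw [show ((u' : G)⁻¹ * (u : G) * n)⁻¹ * n = ((u : G) * n)⁻¹ * ((u' : G) * n) by group]
        exact h1
      refine Subtype.ext ?_
      show φ u = φ u'
      have h3 := (hmem (u'⁻¹ * u)).2 h2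
      rw [map_mul, map_inv, inv_mul_eq_one] at h3
      exact h3.symm

include h hL in
theorem parabolic_count (J : Finset G) (hJ : (↑J : Set G) ⊆ P.S) :
    cnt p ↥(P.parabolic (↑J : Set G)) = Nat.card U * Nat.card (far P (↑J : Set G) ↑J) := by
  induction J using Finset.strongInduction with
  | _ J ih =>
    obtain ⟨V, hVU, hVn, n, hn, hnJ, hstab⟩ := hL (↑J) hJ
    have hVB : V ≤ P.B := hVU.trans h.le
    have hVJ : V ≤ P.parabolic (↑J : Set G) := hVB.trans (B_le_parabolic P _)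
    set PJ := P.parabolic (↑J : Set G) with hPJ
    have hnorm : (V.subgroupOf PJ).Normal :=
      ⟨fun v hv x => Subgroup.mem_subgroupOf.2 (hVn x x.2 v (Subgroup.mem_subgroupOf.1 hv))⟩
    set φ : ↥PJ →* ↥PJ ⧸ V.subgroupOf PJ := QuotientGroup.mk' _
    have hφ : Function.Surjective φ := QuotientGroup.mk'_surjective _
    have hmem : ∀ x : ↥PJ, φ x = 1 ↔ (x : G) ∈ V := fun x => by
      rw [show φ x = (x : ↥PJ ⧸ V.subgroupOf PJ) from rfl, QuotientGroup.eq_one_iff]
      exact Subgroup.mem_subgroupOf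
    have hker : ∀ x : ↥PJ, φ x = 1 → (x : G) ∈ P.B := fun x hx => hVB ((hmem x).1 hx)
    have hVp : IsPGroup p V := h.pgroup.to_le hVU
    let _ : Fintype (↥PJ ⧸ V.subgroupOf PJ) := Fintype.ofFinite _
    set Q := quotPair hker hJ hφ with hQ
    set UX := (U.subgroupOf PJ).map φ with hUX
    have hUJ : U ≤ PJ := h.le.trans (B_le_parabolic P _)
    have hcardQ : ∀ (M : Subgroup G), V ≤ M → M ≤ PJ →
        Nat.card ((M.subgroupOf PJ).map φ) * Nat.card V = Nat.card M ∧
        cnt p M = Nat.card V * cnt p ↥((M.subgroupOf PJ).map φ) := by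
      intro M hVM hMJ
      set f := φ.subgroupMap (M.subgroupOf PJ)
      have hfs : Function.Surjective f := φ.subgroupMap_surjective _
      have hfk : Nat.card f.ker = Nat.card V := Nat.card_congr
        { toFun := fun x => ⟨((x.1 : ↥PJ) : G), (hmem _).1 (congrArg Subtype.val x.2)⟩
          invFun := fun v => ⟨⟨⟨v.1, hVJ v.2⟩, Subgroup.mem_subgroupOf.2 (hVM v.2)⟩,
            Subtype.ext ((hmem _).2 v.2)⟩
          left_inv := fun x => rfl
          right_inv := fun v => rfl }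
      have e := Subgroup.subgroupOfEquivOfLe hMJ
      refine ⟨?_, ?_⟩
      · rw [← hfk, ← Nat.card_congr e.toEquiv, Subgroup.card_eq_card_quotient_mul_card_subgroup f.ker,
          Nat.card_congr (QuotientGroup.quotientKerEquivOfSurjective f hfs).toEquiv]
      · rw [← cnt_congr e, cnt_of_surjective f hfs ?_, hfk]
        obtain ⟨k, hk⟩ := IsPGroup.iff_card.1 hVp
        exact IsPGroup.of_card (n := k) (hfk.trans hk)
    obtain ⟨hnV, hfull⟩ := levi_card h hJ hVU hVn hn hnJ hstab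
    have hsplit : Split Q p UX := levi_split h hJ hVU hφ hmem hn hnJ hstab
    -- the character identity, pulled back
    have hinj : Set.InjOn (ext1 φ) ↑J := by
      intro s hs s' hs' e
      rw [ext1_of_mem (mem_parabolic_of_mem P hs), ext1_of_mem (mem_parabolic_of_mem P hs')] at e
      refine P.inj s (hJ hs) s' (hJ hs') ?_
      have h1 := hker (⟨s, mem_parabolic_of_mem P hs⟩⁻¹ * ⟨s', mem_parabolic_of_mem P hs'⟩)
        (by rw [map_mul, map_inv, e, inv_mul_cancel])
      exact h1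
    have hpow : (Set.toFinite Q.S).toFinset.powerset = J.powerset.image (Finset.image (ext1 φ)) := by
      rw [← Finset.powerset_image]
      congr 1
      refine Finset.coe_injective ?_
      rw [Set.Finite.coe_toFinset, Finset.coe_image]
      rfl
    have key := (sum_altSum_pInd (p := p) Q).trans (sum_pInd_stChar Q hsplit)
    rw [hpow, Finset.sum_image] at key
    swap
    · intro K hK K' hK' e
      have hK1 := Finset.mem_powerset.1 hK
      have hK2 := Finset.mem_powerset.1 hK'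
      ext s
      constructor
      · intro hs
        have h1 : ext1 φ s ∈ Finset.image (ext1 φ) K' := e ▸ Finset.mem_image_of_mem _ hs
        obtain ⟨s', hs', e'⟩ := Finset.mem_image.1 h1
        rwa [← hinj (hK2 hs') (hK1 hs) e']
      · intro hs
        have h1 : ext1 φ s ∈ Finset.image (ext1 φ) K := e.symm ▸ Finset.mem_image_of_mem _ hs
        obtain ⟨s', hs', e'⟩ := Finset.mem_image.1 h1
        rwa [← hinj (hK1 hs') (hK2 hs) e']
    have hkey2 : ∑ K ∈ J.powerset, (-1 : ℂ) ^ K.card *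
        ((((P.parabolic (↑K : Set G)).relIndex PJ * cnt p ↥(P.parabolic (↑K : Set G)) : ℕ)) : ℂ) =
        (Nat.card U : ℂ) := by
      have hU1 := (hcardQ U hVU hUJ).1
      rw [← hU1, Nat.cast_mul, ← key, Finset.sum_mul]
      refine Finset.sum_congr rfl fun K hK => ?_
      have hKJ := Finset.mem_powerset.1 hK
      have hc2 : (Finset.image (ext1 φ) K).card = K.card :=
        Finset.card_image_of_injOn (hinj.mono (Finset.coe_subset.2 hKJ))
      obtain ⟨-, hc⟩ := hcardQ (P.parabolic (↑K : Set G)) (hVB.trans (B_le_parabolic P _))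
        (parabolic_mono P (Finset.coe_subset.2 hKJ))
      rw [hc2, Finset.coe_image, hQ, quotPair_parabolic hker hJ hφ (Finset.coe_subset.2 hKJ), hc,
        Subgroup.index_map_eq _ hφ (fun x hx => B_le_parabolic P _ (hker x hx))]
      simp only [Subgroup.relIndex, Nat.cast_mul]
      ring
    have hid := sum_neg_one_pow_relIndex P hJ (fun K => Nat.card (far P (↑K : Set G) ↑K))
      fun K _ => rfl
    have hJm : J ∈ J.powerset := Finset.mem_powerset_self J
    rw [← Finset.add_sum_erase _ _ hJm] at hkey2 hid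
    have hrest : ∑ K ∈ J.powerset.erase J, (-1 : ℂ) ^ K.card *
        ((((P.parabolic (↑K : Set G)).relIndex PJ * cnt p ↥(P.parabolic (↑K : Set G)) : ℕ)) : ℂ) =
        (Nat.card U : ℂ) * ∑ K ∈ J.powerset.erase J, (-1 : ℂ) ^ K.card *
          ((((P.parabolic (↑K : Set G)).relIndex PJ * Nat.card (far P (↑K : Set G) ↑K) : ℕ)) : ℂ) := by
      rw [Finset.mul_sum]
      refine Finset.sum_congr rfl fun K hK => ?_
      obtain ⟨hne, hK'⟩ := Finset.mem_erase.1 hK
      have hss : K ⊂ J := Finset.ssubset_iff_subset_ne.2 ⟨Finset.mem_powerset.1 hK', hne⟩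
      rw [ih K hss ((Finset.coe_subset.2 hss.1).trans hJ), Nat.cast_mul, Nat.cast_mul, Nat.cast_mul]
      ring
    rw [hrest] at hkey2
    simp only [hPJ, Subgroup.relIndex_self, one_mul] at hkey2 hid
    have h3 : (-1 : ℂ) ^ J.card * (cnt p ↥(P.parabolic (↑J : Set G)) : ℂ) =
        (-1 : ℂ) ^ J.card * ((Nat.card U * Nat.card (far P (↑J : Set G) ↑J) : ℕ) : ℂ) := by
      push_cast at hid hkey2 ⊢
      linear_combination hkey2 - (Nat.card U : ℂ) * hid
    exact_mod_cast mul_left_cancel₀ (pow_ne_zero _ (by norm_num : (-1 : ℂ) ≠ 0)) h3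

include h hL in
/-- Steinberg's count. -/
theorem count_eq : cnt p G = Nat.card U ^ 2 := by
  set J := (Set.toFinite P.S).toFinset with hJdef
  have hJ : (↑J : Set G) = P.S := Set.Finite.coe_toFinset _
  have h1 := parabolic_count h hL J hJ.le
  rw [hJ] at h1
  have htop : P.parabolic P.S = ⊤ := by
    rw [eq_top_iff, ← P.sup_eq_top]
    refine sup_le (B_le_parabolic P _) ?_
    intro n hn
    obtain ⟨L, hL', he⟩ := exists_word P hn
    exact inter_N_eqv P he (word_mem_parabolic P hL')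
  obtain ⟨V, hVU, hVn, n, hn, hnJ, hstab⟩ := hL P.S subset_rfl
  obtain ⟨hc, hfull⟩ := levi_card h subset_rfl hVU hVn hn hnJ hstab
  have hV1 : V = ⊥ := by
    refine (Subgroup.eq_bot_iff_forall _).2 fun v hv => (h.smul_w0_iff (hVU hv)).1 ?_
    refine QuotientGroup.eq.2 ?_
    have := h.le (hVU (hVn (Steinberg.w0 P)⁻¹ (by rw [htop]; trivial) v⁻¹ (inv_mem hv)))
    show (v * Steinberg.w0 P)⁻¹ * Steinberg.w0 P ∈ P.B
    simpa [mul_assoc] using this
  rw [hV1, Subgroup.card_bot, mul_one] at hc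
  rw [far_self P subset_rfl hn hnJ hfull] at h1
  have h2 : cnt p G = cnt p ↥(P.parabolic P.S) := by
    rw [htop]; exact cnt_congr Subgroup.topEquiv.symm
  rw [h2, h1, show Nat.card (sch P n) = cardC P n from rfl, hc, sq]

end count

end Cfsg.Agent.SteinbergCount82
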